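import Cfsg.Agent.Lib.NormalRankTwo.Sixteen
import Cfsg.Agent.Lib.Fusion.Tate
import Cfsg.Agent.Lib.Block.HomocyclicTwo

/-!
# A commutative twisted part

If `[T, n]` is commutative then it is homocyclic of rank two and `T` has order four.
-/

set_option autoImplicit false
set_option linter.unusedSectionVars false
set_option linter.style.haveILetI false

open Subgroup

namespace CfsgLib.NormalRankTwo

open CfsgLib.CFun.NoEight (four_cases)

universe u

variable {G : Type u} [Group G] [Finite G]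

/-- A 2-element normalizing a Sylow 2-subgroup lies in it. -/
theorem mem_sylow_of_normalizes (T : Sylow 2 G) {b : G} (hb : b ∈ normalizer ((T : Subgroup G) : Set G))
    {i : ℕ} (hbi : b ^ 2 ^ i = 1) : b ∈ (T : Subgroup G) := by
  haveI : Fact (Nat.Prime 2) := ⟨Nat.prime_two⟩
  have hp : IsPGroup 2 (zpowers b) := by
    obtain ⟨j, -, hj⟩ := (Nat.dvd_prime_pow Nat.prime_two).1 (orderOf_dvd_of_pow_eq_one hbi)
    exact IsPGroup.of_card (n := j) (by rw [Nat.card_zpowers, hj])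
  have h := IsPGroup.to_sup_of_normal_left' T.2 hp (zpowers_le.2 hb)
  have e : (T : Subgroup G) ⊔ zpowers b = (T : Subgroup G) := T.3 h le_sup_left
  rw [← e]
  exact mem_sup_right (mem_zpowers b)

/-- The odd part of the order gives a 2-element. -/
theorem exists_odd_pow (a : G) : ∃ q i : ℕ, (a ^ (2 * q + 1)) ^ 2 ^ i = 1 := by
  obtain ⟨i, m, hm, he⟩ := Nat.exists_eq_two_pow_mul_odd (orderOf_pos a).ne'
  obtain ⟨q, rfl⟩ := hm
  exact ⟨q, i, by rw [← pow_mul, mul_comm, ← he, pow_orderOf_eq_one]⟩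

/-- There is no small normal four-group enlarged by an involution. -/
theorem Frame.small_adjoin {T : Sylow 2 G} {n : G} (F : Frame T n) {W : Subgroup G}
    (hWT : W ≤ (T : Subgroup G)) (hW2 : ∀ w ∈ W, w * w = 1) (hW4 : Nat.card W = 4)
    (hWc : ∀ t ∈ (T : Subgroup G), ∀ w ∈ W, t * w = w * t) {e : G} (he : e ∈ (T : Subgroup G))
    (he2 : e * e = 1) (hec : ∀ t ∈ (T : Subgroup G), t * e * t⁻¹ * e⁻¹ ∈ W) : e ∈ W := by
  set E := W ⊔ zpowers e with hE
  have hen : zpowers e ≤ normalizer (W : Set G) := zpowers_le.2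
    (centralizer_le_normalizer _ (mem_centralizer_iff.2 fun w hw => (hWc e he w hw).symm))
  have hform : ∀ a ∈ E, a ∈ W ∨ ∃ w ∈ W, a = w * e := by
    intro a ha
    obtain ⟨w, hw, y, hy, rfl⟩ := Coprime.mem_sup_exists hen ha
    obtain ⟨i, rfl⟩ := mem_zpowers_iff.1 hy
    rcases Int.even_or_odd i with ⟨l, rfl⟩ | ⟨l, rfl⟩
    · exact Or.inl (by rw [← two_mul, zpow_mul, zpow_two, he2, one_zpow, mul_one]; exact hw)
    · exact Or.inr ⟨w, hw, by rw [zpow_add, zpow_mul, zpow_two, he2, one_zpow, one_mul, zpow_one]⟩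
  have h4 : Nat.card E ≤ 4 := by
    refine F.small E (sup_le hWT (zpowers_le.2 he)) (fun t ht a ha => ?_) (fun a ha => ?_)
    · rcases hform a ha with h | ⟨w, hw, rfl⟩
      · rw [hWc t ht a h, mul_inv_cancel_right]; exact mem_sup_left h
      · rw [show t * (w * e) * t⁻¹ = (t * w * t⁻¹) * (t * e * t⁻¹ * e⁻¹) * e by group, hWc t ht w hw,
          mul_inv_cancel_right]
        exact mul_mem (mem_sup_left (mul_mem hw (hec t ht))) (mem_sup_right (mem_zpowers e))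
    · rcases hform a ha with h | ⟨w, hw, rfl⟩
      · exact hW2 a h
      · rw [(show Commute e w from hWc e he w hw).mul_mul_mul_comm, hW2 w hw, he2, one_mul]
  have heq : W = E := eq_of_le_of_card_ge le_sup_left (by rw [hW4]; exact h4)
  rw [heq]
  exact mem_sup_right (mem_zpowers e)

theorem mem_normalizer_of_conj_mem {E : Subgroup G} {a : G} (h : ∀ v ∈ E, a * v * a⁻¹ ∈ E) :
    a ∈ normalizer (E : Set G) := by
  refine mem_normalizer_iff.2 fun v => ⟨h v, fun hv => ?_⟩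
  have e : E.map (MulAut.conj a).toMonoidHom = E := eq_of_le_of_card_ge
    (by rintro _ ⟨x, hx, rfl⟩; exact h x hx) (le_of_eq (card_map_of_injective (MulAut.conj a).injective).symm)
  rw [← e] at hv
  obtain ⟨x, hx, hxe⟩ := hv
  rwa [(MulAut.conj a).injective hxe] at hx

/-- An involution outside an index two subgroup inverting its elements of order four is not fused into it. -/
theorem not_fused (T : Sylow 2 G) {X W : Subgroup G} (hXT : X ≤ (T : Subgroup G)) (hWX : W ≤ X)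
    (hW4 : Nat.card W = 4) (hW2 : ∀ w ∈ W, w * w = 1) (hWmem : ∀ x ∈ X, x * x = 1 → x ∈ W)
    (hWc : ∀ t ∈ (T : Subgroup G), ∀ w ∈ W, t * w = w * t) (hidx : X.relIndex (T : Subgroup G) = 2) {c : G}
    (hcT : c ∈ (T : Subgroup G)) (hc2 : c * c = 1) (hcX : c ∉ X)
    (htwist : ∀ e ∈ (T : Subgroup G), e ∉ X → ∀ w ∈ W, ∃ y ∈ X, y * e * y⁻¹ = w * e) :
    ∀ g : G, g * c * g⁻¹ ∉ X := by
  classical
  haveI : Fact (Nat.Prime 2) := ⟨Nat.prime_two⟩
  have hE8 : ∀ E : Subgroup G, E ≤ (T : Subgroup G) → (∀ a ∈ E, a * a = 1) → 8 ≤ Nat.card E → W ≤ E := by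
    intro E hET hE2 hE
    have hle : E ⊓ X ≤ W := fun a ha => hWmem a ha.2 (hE2 a ha.1)
    have hr : (E ⊓ X).relIndex E ≤ 2 := by
      rw [inf_relIndex_left, ← hidx]
      exact relIndex_le_of_le_right hET index_ne_zero_of_finite
    have := card_mul_relIndex (W := E ⊓ X) (X := E) inf_le_left
    have h4 : 4 ≤ Nat.card ↥(E ⊓ X) := by
      by_contra h
      have : Nat.card ↥(E ⊓ X) * (E ⊓ X).relIndex E ≤ 3 * 2 := Nat.mul_le_mul (by omega) hr
      omega
    have e : E ⊓ X = W := eq_of_le_of_card_ge hle (by rw [hW4]; exact h4)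
    rw [← e]
    exact inf_le_left
  intro g₀ hg₀
  have hwW : g₀ * c * g₀⁻¹ ∈ W := hWmem _ hg₀ (by
    rw [show g₀ * c * g₀⁻¹ * (g₀ * c * g₀⁻¹) = g₀ * (c * c) * g₀⁻¹ by group, hc2, mul_one, mul_inv_cancel])
  obtain ⟨g, hg, hgT⟩ := exists_conj_into T (fun t ht => hWc t ht _ hwW) (u := c) (g₀ := g₀) rfl
  set E := W ⊔ zpowers c with hEdef
  have hcW : c ∉ W := fun h => hcX (hWX h)
  have hWE : W ≤ E := le_sup_left
  have hcE : c ∈ E := mem_sup_right (mem_zpowers c)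
  have hen : zpowers c ≤ normalizer (W : Set G) := zpowers_le.2
    (centralizer_le_normalizer _ (mem_centralizer_iff.2 fun w hw => (hWc c hcT w hw).symm))
  have hform : ∀ a ∈ E, a ∈ W ∨ ∃ w ∈ W, a = w * c := by
    intro a ha
    obtain ⟨w, hw, y, hy, rfl⟩ := Coprime.mem_sup_exists hen ha
    obtain ⟨i, rfl⟩ := mem_zpowers_iff.1 hy
    rcases Int.even_or_odd i with ⟨l, rfl⟩ | ⟨l, rfl⟩
    · exact Or.inl (by rw [← two_mul, zpow_mul, zpow_two, hc2, one_zpow, mul_one]; exact hw)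
    · exact Or.inr ⟨w, hw, by rw [zpow_add, zpow_mul, zpow_two, hc2, one_zpow, one_mul, zpow_one]⟩
  have hET : E ≤ (T : Subgroup G) := sup_le (hWX.trans hXT) (zpowers_le.2 hcT)
  have hE2 : ∀ a ∈ E, a * a = 1 := fun a ha => by
    rcases hform a ha with h | ⟨w, hw, rfl⟩
    · exact hW2 a h
    · rw [(show Commute c w from hWc c hcT w hw).mul_mul_mul_comm, hW2 w hw, hc2, one_mul]
  have hEc : ∀ a ∈ E, a * c = c * a := fun a ha => by
    rcases hform a ha with h | ⟨w, hw, rfl⟩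
    · exact (hWc c hcT a h).symm
    · rw [mul_assoc, ← mul_assoc c w c, hWc c hcT w hw, mul_assoc]
  have hEidx : W.relIndex E = 2 := by
    refine index_eq_two_iff.2 ⟨⟨c, hcE⟩, fun b => ?_⟩
    simp only [mem_subgroupOf, coe_mul]
    rcases hform b b.2 with h | ⟨w, hw, h⟩
    · exact Or.inr ⟨h, fun h' => hcW (by simpa using mul_mem (inv_mem h) h')⟩
    · exact Or.inl ⟨by rw [h, mul_assoc, hc2, mul_one]; exact hw,
        fun h' => hcW (by simpa [h] using mul_mem (inv_mem hw) h')⟩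
  have hEcard : Nat.card E = 8 := by
    have := card_mul_relIndex hWE
    rw [hW4, hEidx] at this
    omega
  -- the conjugate plane
  have hW'E : ∀ w ∈ W, g⁻¹ * w * g ∈ E := by
    have h := hE8 (E.map (MulAut.conj g).toMonoidHom) (by rintro _ ⟨a, ha, rfl⟩; exact hgT a (hET ha) (hEc a ha))
      (by
        rintro _ ⟨a, ha, rfl⟩
        show g * a * g⁻¹ * (g * a * g⁻¹) = 1
        rw [show g * a * g⁻¹ * (g * a * g⁻¹) = g * (a * a) * g⁻¹ by group, hE2 a ha, mul_one, mul_inv_cancel])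
      (by rw [card_map_of_injective (MulAut.conj g).injective, hEcard])
    intro w hw
    obtain ⟨a, ha, e⟩ := h hw
    have e' : g * a * g⁻¹ = w := e
    rw [← e', show g⁻¹ * (g * a * g⁻¹) * g = a by group]
    exact ha
  set W' := W.comap (MulAut.conj g).toMonoidHom with hW'def
  have memW' : ∀ {a : G}, a ∈ W' ↔ g * a * g⁻¹ ∈ W := fun {a} => Iff.rfl
  have hW'le : W' ≤ E := fun a ha => by
    have := hW'E _ (memW'.1 ha)
    rwa [show g⁻¹ * (g * a * g⁻¹) * g = a by group] at this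
  have hcW' : c ∈ W' := memW'.2 (by rw [hg]; exact hwW)
  have hW'4 : Nat.card W' = 4 := by
    rw [← hW4, hW'def, comap_equiv_eq_map_symm']
    exact card_map_of_injective (MulEquiv.injective _)
  obtain ⟨w₁, hw₁, hw₁1⟩ : ∃ w ∈ W' ⊓ W, w ≠ 1 := by
    by_contra h
    push Not at h
    have hb : W' ⊓ W = ⊥ := (eq_bot_iff_forall _).2 h
    have h1 : (W' ⊓ W).relIndex W' ≤ 2 := by
      rw [inf_relIndex_left, ← hEidx]
      exact relIndex_le_of_le_right hW'le index_ne_zero_of_finite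
    rw [hb, relIndex_bot_left, hW'4] at h1
    omega
  obtain ⟨w₂, hw₂, hw₂W'⟩ : ∃ w ∈ W, w ∉ W' := by
    by_contra h
    push Not at h
    have e : W = W' := eq_of_le_of_card_ge h (by rw [hW'4, hW4])
    exact hcW (e ▸ hcW')
  obtain ⟨y, hy, hyc⟩ := htwist c hcT hcX w₂ hw₂
  have he'' : g * w₂ * g⁻¹ ∈ (T : Subgroup G) := hgT w₂ (hXT (hWX hw₂)) (hWc c hcT w₂ hw₂).symm
  have he''X : g * w₂ * g⁻¹ ∉ X := fun h => hw₂W' (memW'.2 (hWmem _ h (by
    rw [show g * w₂ * g⁻¹ * (g * w₂ * g⁻¹) = g * (w₂ * w₂) * g⁻¹ by group, hW2 w₂ hw₂, mul_one,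
      mul_inv_cancel])))
  obtain ⟨y', hy', hyw⟩ := htwist _ he'' he''X _ (memW'.1 hw₁.1)
  set a := y * (g⁻¹ * y' * g) with hadef
  have hfixW' : ∀ v ∈ W', g⁻¹ * y' * g * v * (g⁻¹ * y' * g)⁻¹ = v := by
    intro v hv
    have h := hWc y' (hXT hy') _ (memW'.1 hv)
    calc g⁻¹ * y' * g * v * (g⁻¹ * y' * g)⁻¹ = g⁻¹ * (y' * (g * v * g⁻¹)) * y'⁻¹ * g := by group
      _ = g⁻¹ * ((g * v * g⁻¹) * y') * y'⁻¹ * g := by rw [h]
      _ = v := by group
  have hfixW : ∀ v ∈ W, y * v * y⁻¹ = v := fun v hv => by rw [hWc y (hXT hy) v hv, mul_inv_cancel_right]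
  have haw₁ : a * w₁ * a⁻¹ = w₁ := by
    calc a * w₁ * a⁻¹ = y * (g⁻¹ * y' * g * w₁ * (g⁻¹ * y' * g)⁻¹) * y⁻¹ := by simp only [hadef]; group
      _ = w₁ := by rw [hfixW' w₁ hw₁.1, hfixW w₁ hw₁.2]
  have hac : a * c * a⁻¹ = w₂ * c := by
    calc a * c * a⁻¹ = y * (g⁻¹ * y' * g * c * (g⁻¹ * y' * g)⁻¹) * y⁻¹ := by simp only [hadef]; group
      _ = w₂ * c := by rw [hfixW' c hcW', hyc]
  have haw₂ : a * w₂ * a⁻¹ = w₁ * w₂ := by
    have h : g⁻¹ * y' * g * w₂ * (g⁻¹ * y' * g)⁻¹ = w₁ * w₂ := by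
      calc g⁻¹ * y' * g * w₂ * (g⁻¹ * y' * g)⁻¹ = g⁻¹ * (y' * (g * w₂ * g⁻¹) * y'⁻¹) * g := by group
        _ = g⁻¹ * (g * w₁ * g⁻¹ * (g * w₂ * g⁻¹)) * g := by rw [hyw]
        _ = _ := by group
    calc a * w₂ * a⁻¹ = y * (g⁻¹ * y' * g * w₂ * (g⁻¹ * y' * g)⁻¹) * y⁻¹ := by simp only [hadef]; group
      _ = w₁ * w₂ := by rw [h, hfixW _ (mul_mem hw₁.2 hw₂)]
  have hw₂1 : w₂ ≠ 1 := fun h => hw₂W' (h ▸ one_mem W')
  have hw12 : w₁ ≠ w₂ := fun h => hw₂W' (h ▸ hw₁.1)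
  have haE : ∀ v ∈ E, a * v * a⁻¹ ∈ E := by
    have haW : ∀ v ∈ W, a * v * a⁻¹ ∈ E := fun v hv => by
      rcases four_cases hW4 hW2 hw₁.2 hw₂ hw₁1 hw₂1 hw12 v hv with rfl | rfl | rfl | rfl
      · rw [mul_one, mul_inv_cancel]; exact one_mem E
      · rw [haw₁]; exact hWE hw₁.2
      · rw [haw₂]; exact hWE (mul_mem hw₁.2 hw₂)
      · rw [show a * (w₁ * w₂) * a⁻¹ = (a * w₁ * a⁻¹) * (a * w₂ * a⁻¹) by group, haw₁, haw₂]
        exact hWE (mul_mem hw₁.2 (mul_mem hw₁.2 hw₂))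
    intro v hv
    rcases hform v hv with h | ⟨w, hw, rfl⟩
    · exact haW v h
    · rw [show a * (w * c) * a⁻¹ = (a * w * a⁻¹) * (a * c * a⁻¹) by group, hac]
      exact mul_mem (haW w hw) (mul_mem (hWE hw₂) hcE)
  have haN : a ∈ normalizer (E : Set G) := mem_normalizer_of_conj_mem haE
  have ha2c : a * a * c * (a * a)⁻¹ = w₁ * c := by
    rw [show a * a * c * (a * a)⁻¹ = a * (a * c * a⁻¹) * a⁻¹ by group, hac,
      show a * (w₂ * c) * a⁻¹ = (a * w₂ * a⁻¹) * (a * c * a⁻¹) by group, haw₂, hac,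
      show w₁ * w₂ * (w₂ * c) = w₁ * (w₂ * w₂) * c by group, hW2 w₂ hw₂, mul_one]
  have ha4 : Commute (a * a * (a * a)) c := by
    show a * a * (a * a) * c = c * (a * a * (a * a))
    refine mul_inv_eq_iff_eq_mul.1 ?_
    have hw : a * a * w₁ * (a * a)⁻¹ = w₁ := by
      rw [show a * a * w₁ * (a * a)⁻¹ = a * (a * w₁ * a⁻¹) * a⁻¹ by group, haw₁, haw₁]
    rw [show a * a * (a * a) * c * (a * a * (a * a))⁻¹ = a * a * (a * a * c * (a * a)⁻¹) * (a * a)⁻¹ by group,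
      ha2c, show a * a * (w₁ * c) * (a * a)⁻¹ = (a * a * w₁ * (a * a)⁻¹) * (a * a * c * (a * a)⁻¹) by group,
      hw, ha2c, ← mul_assoc, hW2 w₁ hw₁.2, one_mul]
  obtain ⟨q, i, hqi⟩ := exists_odd_pow a
  set b := a ^ (2 * q + 1) with hbdef
  have hbc : b * b * c * (b * b)⁻¹ = w₁ * c := by
    have e : b * b = (a * a) * (a * a * (a * a)) ^ q := by
      simp only [hbdef, ← pow_two, ← pow_mul, ← pow_succ', ← pow_add]
      congr 1
      ring
    rw [e, show a * a * (a * a * (a * a)) ^ q * c * (a * a * (a * a * (a * a)) ^ q)⁻¹ =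
      a * a * ((a * a * (a * a)) ^ q * c * ((a * a * (a * a)) ^ q)⁻¹) * (a * a)⁻¹ by group,
      (ha4.pow_left q).eq, mul_inv_cancel_right, ha2c]
  have hbN : b ∈ normalizer (E : Set G) := pow_mem haN _
  have hpR : IsPGroup 2 ↥(E ⊔ zpowers b) := by
    obtain ⟨j, -, hj⟩ := (Nat.dvd_prime_pow Nat.prime_two).1 (orderOf_dvd_of_pow_eq_one hqi)
    exact IsPGroup.to_sup_of_normal_left' (T.2.to_le hET)
      (IsPGroup.of_card (n := j) (by rw [Nat.card_zpowers, hj])) (zpowers_le.2 hbN)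
  obtain ⟨P, hP⟩ := hpR.exists_le_sylow
  obtain ⟨k, hk⟩ := MulAction.exists_smul_eq G P T
  have hkT : ∀ v ∈ E ⊔ zpowers b, k * v * k⁻¹ ∈ (T : Subgroup G) := fun v hv => by
    have h1 : (MulAut.conj k) v ∈ ((k • P : Sylow 2 G) : Subgroup G) := by
      rw [Sylow.coe_subgroup_smul]
      exact smul_mem_pointwise_smul _ _ _ (hP hv)
    rw [hk] at h1
    exact h1
  set b3 := k * b * k⁻¹ with hb3def
  set e3 := k * c * k⁻¹ with he3def
  have hb3 : b3 ∈ (T : Subgroup G) := hkT b (mem_sup_right (mem_zpowers b))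
  have he3 : e3 ∈ (T : Subgroup G) := hkT c (mem_sup_left hcE)
  set u := b3 * e3 * b3⁻¹ * e3⁻¹ with hudef
  have huX : u ∈ X := by
    have hm : ∀ p ∈ (T : Subgroup G), ∀ r ∈ (T : Subgroup G), p * r ∈ X ↔ (p ∈ X ↔ r ∈ X) := fun p hp r hr => by
      have := mul_mem_iff_of_index_two (H := X.subgroupOf (T : Subgroup G)) hidx (a := ⟨p, hp⟩) (b := ⟨r, hr⟩)
      simpa only [mem_subgroupOf, coe_mul] using this
    simp only [hudef]
    rw [hm _ (mul_mem (mul_mem hb3 he3) (inv_mem hb3)) _ (inv_mem he3), hm _ (mul_mem hb3 he3) _ (inv_mem hb3),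
      hm _ hb3 _ he3, inv_mem_iff, inv_mem_iff]
    tauto
  have huW : u ∈ W := hWmem u huX (by
    have h : b * c * b⁻¹ * c⁻¹ ∈ E :=
      mul_mem ((mem_normalizer_iff.1 hbN c).1 hcE) (inv_mem hcE)
    rw [show u * u = k * ((b * c * b⁻¹ * c⁻¹) * (b * c * b⁻¹ * c⁻¹)) * k⁻¹ by
      simp only [hudef, hb3def, he3def]; group, hE2 _ h, mul_one, mul_inv_cancel])
  have hb3e : b3 * b3 * e3 * (b3 * b3)⁻¹ = e3 := by
    calc b3 * b3 * e3 * (b3 * b3)⁻¹ = (b3 * u * b3⁻¹) * u * e3 := by simp only [hudef]; group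
      _ = e3 := by rw [hWc b3 hb3 u huW, mul_inv_cancel_right, hW2 u huW, one_mul]
  have h : b * b * c * (b * b)⁻¹ = c := by
    calc b * b * c * (b * b)⁻¹ = k⁻¹ * (b3 * b3 * e3 * (b3 * b3)⁻¹) * k := by
          simp only [hb3def, he3def]; group
      _ = c := by rw [hb3e]; simp only [he3def]; group
  rw [hbc] at h
  exact hw₁1 (mul_eq_right.1 h)

/-- Elements of the fixed part commute. -/
theorem Frame.fix_commute {T : Sylow 2 G} {n : G} (F : Frame T n)
    (hab : ∀ x ∈ twisted T n, ∀ y ∈ twisted T n, x * y = y * x) {x₀ : G} (hx₀ : x₀ ∈ twisted T n)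
    (hgen : ∀ M : Subgroup G, M ≤ twisted T n → (∀ x ∈ M, n * x * n⁻¹ ∈ M) → x₀ ∈ M → twisted T n ≤ M)
    (hfaith : ∀ k ∈ fixPart T n, (∀ x ∈ twisted T n, k * x = x * k) → k = 1) :
    ∀ c ∈ fixPart T n, ∀ d ∈ fixPart T n, c * d = d * c := by
  classical
  set X := twisted T n with hXdef
  set C := fixPart T n with hCdef
  intro c hc d hd
  -- `c` acts as a combination of powers of `n`
  set O := closure {y : G | ∃ i : ℤ, y = n ^ i * x₀ * (n ^ i)⁻¹}
  have hnX : ∀ (i : ℤ), ∀ x ∈ X, n ^ i * x * (n ^ i)⁻¹ ∈ X := fun i x hx =>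
    (mem_normalizer_iff.1 (zpow_mem F.mem_normalizer_twisted i) x).1 hx
  have hOX : O ≤ X := (closure_le X).2 (by rintro _ ⟨i, rfl⟩; exact hnX i x₀ hx₀)
  have hOn : ∀ x ∈ O, n * x * n⁻¹ ∈ O := by
    have : O ≤ O.comap (MulAut.conj n).toMonoidHom := (closure_le _).2 (by
      rintro _ ⟨i, rfl⟩
      refine subset_closure ⟨1 + i, ?_⟩
      show n * (n ^ i * x₀ * (n ^ i)⁻¹) * n⁻¹ = _
      rw [zpow_add, zpow_one]
      group)
    exact this
  have hO : X ≤ O := hgen O hOX hOn (subset_closure ⟨0, by simp⟩)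
  have hex : ∀ y ∈ O, ∃ E : G → G, (∀ x ∈ X, E x ∈ X) ∧ E x₀ = y ∧
      (∀ x ∈ X, ∀ x' ∈ X, E (x * x') = E x * E x') ∧
      ∀ g, g ∈ C ∨ g = n → ∀ x ∈ X, E (g * x * g⁻¹) = g * E x * g⁻¹ := by
    intro y hy
    induction hy using closure_induction with
    | mem y hy =>
      obtain ⟨i, rfl⟩ := hy
      refine ⟨fun x => n ^ i * x * (n ^ i)⁻¹, hnX i, rfl, fun x _ x' _ => ?_, fun g hg x _ => ?_⟩
      · group
      · have hgn : Commute g (n ^ i) := by
          refine (Commute.zpow_right ?_ i)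
          rcases hg with h | h
          · exact (F.fix_comm h).symm
          · rw [h]
        calc n ^ i * (g * x * g⁻¹) * (n ^ i)⁻¹ = (n ^ i * g) * x * (n ^ i * g)⁻¹ := by group
          _ = (g * n ^ i) * x * (g * n ^ i)⁻¹ := by rw [hgn.eq]
          _ = _ := by group
    | one =>
      exact ⟨fun _ => 1, fun _ _ => one_mem X, rfl, fun _ _ _ _ => (one_mul 1).symm,
        fun g _ _ _ => by rw [mul_one, mul_inv_cancel]⟩
    | mul y y' _ _ hy hy' =>
      obtain ⟨E, h1, h2, h3, h4⟩ := hy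
      obtain ⟨E', h1', h2', h3', h4'⟩ := hy'
      refine ⟨fun x => E x * E' x, fun x hx => mul_mem (h1 x hx) (h1' x hx), by simp only [h2, h2'],
        fun x hx x' hx' => ?_, fun g hg x hx => ?_⟩
      · show E (x * x') * E' (x * x') = _
        rw [h3 x hx x' hx', h3' x hx x' hx',
          (show Commute (E x') (E' x) from hab _ (h1 x' hx') _ (h1' x hx)).mul_mul_mul_comm]
      · show E (g * x * g⁻¹) * E' (g * x * g⁻¹) = _
        rw [h4 g hg x hx, h4' g hg x hx]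
        group
    | inv y _ hy =>
      obtain ⟨E, h1, h2, h3, h4⟩ := hy
      refine ⟨fun x => (E x)⁻¹, fun x hx => inv_mem (h1 x hx), by simp only [h2],
        fun x hx x' hx' => ?_, fun g hg x hx => ?_⟩
      · show (E (x * x'))⁻¹ = _
        rw [h3 x hx x' hx', mul_inv_rev, hab _ (X.inv_mem (h1 x' hx')) _ (X.inv_mem (h1 x hx))]
      · show (E (g * x * g⁻¹))⁻¹ = _
        rw [h4 g hg x hx]
        group
  obtain ⟨E, hE1, hE2, hE3, hE4⟩ := hex _ (hO (F.twisted_conj hc.1 hx₀))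
  have hE0 : E 1 = 1 := by
    have h := hE3 1 X.one_mem 1 X.one_mem
    rw [one_mul] at h
    exact left_eq_mul.1 h
  let K : Subgroup G :=
    { carrier := {x | x ∈ X ∧ c * x * c⁻¹ = E x}
      one_mem' := ⟨X.one_mem, by rw [hE0, mul_one, mul_inv_cancel]⟩
      mul_mem' := fun {a b} ha hb => ⟨mul_mem ha.1 hb.1, by rw [hE3 a ha.1 b hb.1, ← ha.2, ← hb.2]; group⟩
      inv_mem' := fun {a} ha => ⟨inv_mem ha.1, by
        have h := hE3 a ha.1 a⁻¹ (inv_mem ha.1)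
        rw [mul_inv_cancel, hE0] at h
        rw [← inv_eq_of_mul_eq_one_right h.symm, ← ha.2]
        group⟩ }
  have hK : X ≤ K := hgen K (fun x hx => hx.1) (fun x hx => ⟨F.twisted_n hx.1, by
    rw [F.fix_conj hc, hx.2, hE4 n (Or.inr rfl) x hx.1]⟩) ⟨hx₀, hE2.symm⟩
  have hk : c * d * c⁻¹ * d⁻¹ = 1 := hfaith _
    (mul_mem (mul_mem (mul_mem hc hd) (inv_mem hc)) (inv_mem hd)) fun x hx => by
      have hx' : c⁻¹ * (d⁻¹ * x * d) * c ∈ X := by
        have h1 : d⁻¹ * x * d ∈ X := by simpa using F.twisted_conj ((T : Subgroup G).inv_mem hd.1) hx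
        simpa using F.twisted_conj ((T : Subgroup G).inv_mem hc.1) h1
      set x' := c⁻¹ * (d⁻¹ * x * d) * c with hx'def
      have e : c * (d * x' * d⁻¹) * c⁻¹ = d * (c * x' * c⁻¹) * d⁻¹ := by
        rw [(hK (F.twisted_conj hd.1 hx')).2, hE4 d (Or.inl hd) x' hx', ← (hK hx').2]
      calc c * d * c⁻¹ * d⁻¹ * x = c * (d * x' * d⁻¹) * c⁻¹ * (c * d * c⁻¹ * d⁻¹) := by
            simp only [hx'def]; group
        _ = d * (c * x' * c⁻¹) * d⁻¹ * (c * d * c⁻¹ * d⁻¹) := by rw [e]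
        _ = x * (c * d * c⁻¹ * d⁻¹) := by simp only [hx'def]; group
  rwa [mul_inv_eq_one, mul_inv_eq_iff_eq_mul] at hk

/-- A commutative twisted part. -/
theorem Frame.card_of_comm [IsSimpleGroup G] (hna : ¬ IsMulCommutative G) {T : Sylow 2 G} {n : G}
    (F : Frame T n) (hab : ∀ x ∈ twisted T n, ∀ y ∈ twisted T n, x * y = y * x) :
    Nat.card (T : Subgroup G) = 4 := by
  classical
  haveI : Fact (Nat.Prime 2) := ⟨Nat.prime_two⟩
  set X := twisted T n with hXdef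
  set C := fixPart T n with hCdef
  have hfix1 : ∀ x ∈ X, n * x * n⁻¹ = x → x = 1 := fun x hx h => by
    have := F.mem_of_fix_mod (N := ⊥) (fun y hy => by rw [mem_bot] at hy ⊢; rw [hy, mul_one, mul_inv_cancel])
      (fun a ha b hb => by rw [mem_bot, hab a ha b hb, mul_inv_cancel_right, mul_inv_cancel]) hx
      (by rw [mem_bot, h, mul_inv_cancel])
    rwa [mem_bot] at this
  have hXT : X ≤ (T : Subgroup G) := F.twisted_le
  have hCX : ∀ c ∈ C, c ∈ X → c = 1 := fun c hc hcX => hfix1 c hcX (by rw [F.fix_comm hc, mul_inv_cancel_right])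
  have hbot : ∀ t ∈ (T : Subgroup G), ∀ x ∈ (⊥ : Subgroup G), t * x * t⁻¹ ∈ (⊥ : Subgroup G) :=
    fun t _ x hx => by rw [mem_bot] at hx ⊢; rw [hx, mul_one, mul_inv_cancel]
  -- the involutions
  set W := omegaAb X hab
  have hWX : W ≤ X := fun w hw => hw.1
  have hW2 : ∀ w ∈ W, w * w = 1 := fun w hw => hw.2
  have hWT : ∀ t ∈ (T : Subgroup G), ∀ w ∈ W, t * w * t⁻¹ ∈ W := fun t ht w hw =>
    ⟨F.twisted_conj ht hw.1, by
      rw [show t * w * t⁻¹ * (t * w * t⁻¹) = t * (w * w) * t⁻¹ by group, hw.2, mul_one, mul_inv_cancel]⟩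
  have hWn : ∀ w ∈ W, n * w * n⁻¹ ∈ W := fun w hw =>
    ⟨F.twisted_n hw.1, by
      rw [show n * w * n⁻¹ * (n * w * n⁻¹) = n * (w * w) * n⁻¹ by group, hw.2, mul_one, mul_inv_cancel]⟩
  obtain ⟨a₀, ha₀, ha₀1⟩ : ∃ a ∈ W, a ≠ 1 := by
    haveI : Nontrivial X := (nontrivial_iff_ne_bot X).2 F.twisted_ne_bot
    obtain ⟨m, hm⟩ := IsPGroup.iff_card.1 (T.2.to_le hXT)
    obtain ⟨a, ha⟩ := exists_prime_orderOf_dvd_card' (G := X) 2 (by
      rw [hm]
      refine dvd_pow_self 2 fun e => ?_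
      have h1 : 1 < Nat.card X := Finite.one_lt_card
      rw [hm, e, pow_zero] at h1
      omega)
    refine ⟨a, ⟨a.2, ?_⟩, fun e => ?_⟩
    · have h := congrArg Subtype.val (pow_orderOf_eq_one a)
      rwa [ha, pow_two, coe_mul, coe_one] at h
    · rw [show a = 1 from Subtype.ext e, orderOf_one] at ha
      omega
  have hW4 : Nat.card W = 4 := by
    have hle := F.small W (hWX.trans hXT) hWT hW2
    rcases card_eq_two_or_four (hWX.trans hXT) hle (fun e => ha₀1 (mem_bot.1 (eq_bot_of_card_eq W e ▸ ha₀))) with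
      h | h
    · exfalso
      obtain ⟨z, hz, hz1, hall⟩ := card_two_elems h
      exact hz1 (hfix1 z hz.1 ((hall _ (hWn z hz)).resolve_left fun e => hz1 (conj_eq_one_iff.1 e)))
    · exact h
  have horbit : ∀ a ∈ W, a ≠ 1 → ∀ w ∈ W, w = 1 ∨ w = a ∨ w = n * a * n⁻¹ ∨ w = a * (n * a * n⁻¹) := by
    intro a ha ha1
    exact four_cases hW4 hW2 ha (hWn a ha) ha1 (fun e => ha1 (conj_eq_one_iff.1 e))
      (fun e => ha1 (hfix1 a ha.1 e.symm))
  have hWc : ∀ t ∈ (T : Subgroup G), ∀ w ∈ W, t * w = w * t := by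
    obtain ⟨a, ha, ha1, hac⟩ := F.exists_central_mod hbot (hWX.trans hXT) hWT
      (fun h => ha₀1 (mem_bot.1 (h ha₀)))
    rw [mem_bot] at ha1
    have hac' : ∀ t ∈ (T : Subgroup G), t * a = a * t := fun t ht =>
      mul_inv_eq_iff_eq_mul.1 (mul_inv_eq_one.1 (mem_bot.1 (hac t ht)))
    intro t ht w hw
    have hb : t * (n * a * n⁻¹) = n * a * n⁻¹ * t := by
      have ht' : n⁻¹ * t * n ∈ (T : Subgroup G) := (mem_normalizer_iff''.1 F.mem t).1 ht
      calc t * (n * a * n⁻¹) = n * ((n⁻¹ * t * n) * a) * n⁻¹ := by group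
        _ = n * (a * (n⁻¹ * t * n)) * n⁻¹ := by rw [hac' _ ht']
        _ = _ := by group
    rcases horbit a ha ha1 w hw with rfl | rfl | rfl | rfl
    · rw [mul_one, one_mul]
    · exact hac' t ht
    · exact hb
    · exact ((show Commute t a from hac' t ht).mul_right hb).eq
  -- roots and generation
  have hWX' : ∀ x ∈ X, ∀ j : ℕ, x ^ 2 ^ (j + 1) = 1 → x ^ 2 ^ j ∈ W := fun x hx j h =>
    ⟨pow_mem hx _, by rw [← pow_two, ← pow_mul, ← pow_succ]; exact h⟩
  have hcontain : ∀ (M : Subgroup G), M ≤ X → (∀ x ∈ M, n * x * n⁻¹ ∈ M) → ∀ y ∈ M, ∀ i : ℕ, y ^ 2 ^ i ≠ 1 →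
      ∀ j, j ≤ i + 1 → ∀ x ∈ X, x ^ 2 ^ j = 1 → x ∈ M := by
    intro M hMX hMn y hy i hyi
    have hex : ∃ e, y ^ 2 ^ (e + 1) = 1 := by
      obtain ⟨e, he⟩ := T.2 ⟨y, hXT (hMX hy)⟩
      refine ⟨e, ?_⟩
      rw [pow_succ, pow_mul, show y ^ 2 ^ e = 1 from congrArg Subtype.val he, one_pow]
    set e := Nat.find hex
    have he1 : y ^ 2 ^ (e + 1) = 1 := Nat.find_spec hex
    have hie : i ≤ e := by
      by_contra h
      obtain ⟨d, hd⟩ := Nat.exists_eq_add_of_le (show e + 1 ≤ i by omega)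
      exact hyi (by rw [hd, pow_add, pow_mul, he1, one_pow])
    have he0 : y ^ 2 ^ e ≠ 1 := by
      rcases Nat.eq_zero_or_pos e with h0 | hpos
      · rw [h0, pow_zero, pow_one]
        rintro rfl
        exact hyi (one_pow _)
      · have := Nat.find_min hex (show e - 1 < e by omega)
        rwa [show e - 1 + 1 = e by omega] at this
    intro j
    induction j with
    | zero => intro _ x _ h; rw [pow_zero, pow_one] at h; rw [h]; exact one_mem M
    | succ j ih =>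
      intro hj x hx h
      set y₁ := y ^ 2 ^ (e - j) with hy₁def
      have hy₁ : y₁ ∈ M := pow_mem hy _
      have hpw : y₁ ^ 2 ^ j = y ^ 2 ^ e := by
        rw [hy₁def, ← pow_mul, ← pow_add]; congr 2; omega
      set y₂ := n * y₁ * n⁻¹ with hy₂def
      have hy₂ : y₂ ∈ M := hMn y₁ hy₁
      have hpw2 : y₂ ^ 2 ^ j = n * y ^ 2 ^ e * n⁻¹ := by rw [hy₂def, conj_pow, hpw]
      obtain ⟨m, hm, hme⟩ : ∃ m ∈ M, m ^ 2 ^ j = x ^ 2 ^ j := by
        rcases horbit _ (hWX' y (hMX hy) e he1) he0 _ (hWX' x hx j h) with h | h | h | h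
        · exact ⟨1, one_mem M, by rw [one_pow, h]⟩
        · exact ⟨y₁, hy₁, by rw [hpw, h]⟩
        · exact ⟨y₂, hy₂, by rw [hpw2, h]⟩
        · exact ⟨y₁ * y₂, mul_mem hy₁ hy₂, by
            rw [(show Commute y₁ y₂ from hab _ (hMX hy₁) _ (hMX hy₂)).mul_pow, hpw, hpw2, h]⟩
      have hxm : (x * m⁻¹) ^ 2 ^ j = 1 := by
        rw [(show Commute x m⁻¹ from hab x hx _ (X.inv_mem (hMX hm))).mul_pow, inv_pow, hme, mul_inv_cancel]
      have := mul_mem (ih (by omega) _ (mul_mem hx (inv_mem (hMX hm))) hxm) hm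
      rwa [inv_mul_cancel_right] at this
  obtain ⟨x₀, hx₀, hgen⟩ : ∃ x₀ ∈ X, ∀ M : Subgroup G, M ≤ X → (∀ x ∈ M, n * x * n⁻¹ ∈ M) → x₀ ∈ M → X ≤ M := by
    have hex : ∃ k, ∀ x ∈ X, x ^ 2 ^ k = 1 := by
      obtain ⟨m, hm⟩ := IsPGroup.iff_card.1 (T.2.to_le hXT)
      exact ⟨m, fun x hx => by rw [← hm]; exact congrArg Subtype.val (pow_card_eq_one' (x := (⟨x, hx⟩ : X)))⟩
    set k := Nat.find hex
    have hk : ∀ x ∈ X, x ^ 2 ^ k = 1 := Nat.find_spec hex
    have hk1 : 1 ≤ k := by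
      by_contra h
      have h1 := hk a₀ ha₀.1
      rw [show k = 0 by omega, pow_zero, pow_one] at h1
      exact ha₀1 h1
    have hmin := Nat.find_min hex (show k - 1 < k by omega)
    push Not at hmin
    obtain ⟨x₀, hx₀, hne⟩ := hmin
    exact ⟨x₀, hx₀, fun M hMX hMn hxM x hx => hcontain M hMX hMn x₀ hxM (k - 1) hne k (by omega) x hx (hk x hx)⟩
  -- the fixed part is faithful and commutative
  have hfaith : ∀ k ∈ C, (∀ x ∈ X, k * x = x * k) → k = 1 := by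
    intro k hk hkX
    by_contra hk1
    set K := C ⊓ centralizer (X : Set G)
    have hKT : ∀ t ∈ (T : Subgroup G), ∀ a ∈ K, t * a * t⁻¹ ∈ K := by
      intro t ht a ha
      obtain ⟨x, hx, c, hc, rfl⟩ := F.decomp ht
      have hca : c * a * c⁻¹ ∈ K := by
        refine ⟨C.mul_mem (C.mul_mem hc ha.1) (C.inv_mem hc), mem_centralizer_iff.2 fun y hy => ?_⟩
        have hy' : c⁻¹ * y * c ∈ X := by
          simpa using F.twisted_conj ((T : Subgroup G).inv_mem hc.1) hy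
        calc y * (c * a * c⁻¹) = c * ((c⁻¹ * y * c) * a) * c⁻¹ := by group
          _ = c * (a * (c⁻¹ * y * c)) * c⁻¹ := by rw [mem_centralizer_iff.1 ha.2 _ hy']
          _ = _ := by group
      rw [show x * c * a * (x * c)⁻¹ = x * (c * a * c⁻¹) * x⁻¹ by group, mem_centralizer_iff.1 hca.2 x hx,
        mul_inv_cancel_right]
      exact hca
    obtain ⟨e, he, he1, hec⟩ := F.exists_central_mod hbot (inf_le_left.trans inf_le_left) hKT
      (fun h => hk1 (mem_bot.1 (h ⟨hk, mem_centralizer_iff.2 fun x hx => (hkX x hx).symm⟩)))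
    rw [mem_bot] at he1
    have hec' : ∀ t ∈ (T : Subgroup G), t * e = e * t := fun t ht =>
      mul_inv_eq_iff_eq_mul.1 (mul_inv_eq_one.1 (mem_bot.1 (hec t ht)))
    obtain ⟨i, hi⟩ := T.2 ⟨e, he.1.1⟩
    have hi' : e ^ 2 ^ i = 1 := congrArg Subtype.val hi
    -- an involution among the powers
    have hex : ∃ j, e ^ 2 ^ (j + 1) = 1 := ⟨i, by rw [pow_succ, pow_mul, hi', one_pow]⟩
    set j := Nat.find hex
    have hj : e ^ 2 ^ (j + 1) = 1 := Nat.find_spec hex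
    have hj0 : e ^ 2 ^ j ≠ 1 := by
      rcases Nat.eq_zero_or_pos j with h0 | hpos
      · rwa [h0, pow_zero, pow_one]
      · have := Nat.find_min hex (show j - 1 < j by omega)
        rwa [show j - 1 + 1 = j by omega] at this
    have hmem : e ^ 2 ^ j ∈ W := by
      refine F.small_adjoin (hWX.trans hXT) hW2 hW4 hWc (pow_mem he.1.1 _)
        (by rw [← pow_two, ← pow_mul, ← pow_succ]; exact hj) fun t ht => ?_
      rw [((show Commute t e from hec' t ht).pow_right _).eq, mul_inv_cancel_right, mul_inv_cancel]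
      exact one_mem W
    exact hj0 (hCX _ (pow_mem he.1 _) hmem.1)
  have hCcomm := F.fix_commute hab hx₀ hgen hfaith
  -- involutions of the fixed part
  have hinvert : ∀ c ∈ C, c * c = 1 → c ≠ 1 →
      (∃ y ∈ X, y * y ∈ W ∧ y * y ≠ 1) ∧ ∀ x ∈ X, x * x ∈ W → c * x * c⁻¹ = x⁻¹ := by
    intro c hc hc2 hc1
    let I : Subgroup G :=
      { carrier := {x | x ∈ X ∧ c * x * c⁻¹ = x⁻¹}
        one_mem' := ⟨X.one_mem, by rw [inv_one, mul_one, mul_inv_cancel]⟩
        mul_mem' := fun {a b} ha hb => ⟨mul_mem ha.1 hb.1, by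
          rw [show c * (a * b) * c⁻¹ = (c * a * c⁻¹) * (c * b * c⁻¹) by group, ha.2, hb.2, mul_inv_rev,
            hab _ (X.inv_mem ha.1) _ (X.inv_mem hb.1)]⟩
        inv_mem' := fun {a} ha => ⟨inv_mem ha.1, by
          rw [show c * a⁻¹ * c⁻¹ = (c * a * c⁻¹)⁻¹ by group, ha.2]⟩ }
    obtain ⟨x₁, hx₁, hx₁W⟩ : ∃ x ∈ X, c * x * c⁻¹ * x⁻¹ ∉ W := by
      by_contra hno
      push Not at hno
      refine hc1 (hCX c hc (F.small_adjoin (hWX.trans hXT) hW2 hW4 hWc hc.1 hc2 fun t ht => ?_).1)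
      obtain ⟨x, hx, d, hd, rfl⟩ := F.decomp ht
      rw [show x * d * c * (x * d)⁻¹ * c⁻¹ = x * (d * c * d⁻¹) * x⁻¹ * c⁻¹ by group, hCcomm d hd c hc,
        mul_inv_cancel_right,
        show x * c * x⁻¹ * c⁻¹ = x * (c * x⁻¹ * c⁻¹ * x⁻¹⁻¹) * x⁻¹ by group,
        hab x hx _ (hno x⁻¹ (inv_mem hx)).1, mul_inv_cancel_right]
      exact hno x⁻¹ (inv_mem hx)
    set y := c * x₁ * c⁻¹ * x₁⁻¹ with hy
    have hcx : c * x₁ * c⁻¹ ∈ X := F.twisted_conj hc.1 hx₁
    have hyX : y ∈ X := mul_mem hcx (inv_mem hx₁)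
    have hyI : y ∈ I := ⟨hyX, by
      have hcc : c⁻¹ = c := inv_eq_of_mul_eq_one_right hc2
      calc c * y * c⁻¹ = (c * c) * x₁ * (c * c)⁻¹ * (c * x₁⁻¹ * c⁻¹) := by simp only [hy]; group
        _ = x₁ * (c * x₁ * c⁻¹)⁻¹ := by rw [hc2]; group
        _ = _ := by simp only [hy]; group⟩
    have hy2 : y ^ 2 ^ 1 ≠ 1 := fun h => hx₁W ⟨hyX, by rwa [pow_one, pow_two] at h⟩
    have hI : ∀ x ∈ X, x * x ∈ W → x ∈ I := fun x hx hxx =>
      hcontain I (fun a ha => ha.1) (fun a ha => ⟨F.twisted_n ha.1, by rw [F.fix_conj hc, ha.2]; group⟩)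
        y hyI 1 hy2 2 le_rfl x hx (by rw [show (2 : ℕ) ^ 2 = 2 + 2 by norm_num, pow_add, pow_two]; exact hxx.2)
    refine ⟨?_, fun x hx hxx => (hI x hx hxx).2⟩
    have hexy : ∃ e, y ^ 2 ^ (e + 2) = 1 := by
      obtain ⟨e, he⟩ := T.2 ⟨y, hXT hyX⟩
      exact ⟨e, by rw [pow_add, pow_mul, show y ^ 2 ^ e = 1 from congrArg Subtype.val he, one_pow]⟩
    set e := Nat.find hexy
    have he : y ^ 2 ^ (e + 2) = 1 := Nat.find_spec hexy
    refine ⟨y ^ 2 ^ e, pow_mem hyX _, ?_, ?_⟩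
    · rw [← pow_two, ← pow_mul, ← pow_succ]
      exact hWX' y hyX (e + 1) he
    · rw [← pow_two, ← pow_mul, ← pow_succ]
      rcases Nat.eq_zero_or_pos e with h0 | hpos
      · rwa [h0]
      · have := Nat.find_min hexy (show e - 1 < e by omega)
        rwa [show e - 1 + 2 = e + 1 by omega] at this
  have hroot : ∀ d ∈ C, d * d ≠ 1 → (d * d) * (d * d) ≠ 1 := by
    intro d hd hd1 hd4
    obtain ⟨⟨y, hy, hy4, hy2⟩, hinv⟩ := hinvert _ (mul_mem hd hd) hd4 hd1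
    have hdy : d * y * d⁻¹ ∈ X := F.twisted_conj hd.1 hy
    set u := d * y * d⁻¹ * y⁻¹ with hu
    have huX : u ∈ X := mul_mem hdy (inv_mem hy)
    have huW : u ∈ W := ⟨huX, by
      have e : d * (y * y) * d⁻¹ = u * u * (y * y) := by
        calc d * (y * y) * d⁻¹ = (u * y) * (u * y) := by simp only [hu]; group
          _ = _ := (show Commute y u from hab y hy u huX).mul_mul_mul_comm u y
      rw [hWc d hd.1 _ hy4, mul_inv_cancel_right] at e
      exact right_eq_mul.1 e⟩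
    have hfix : d * d * y * (d * d)⁻¹ = y := by
      calc d * d * y * (d * d)⁻¹ = (d * u * d⁻¹) * u * y := by simp only [hu]; group
        _ = y := by rw [hWc d hd.1 u huW, mul_inv_cancel_right, hW2 u huW, one_mul]
    have := hinv y hy hy4
    rw [hfix] at this
    exact hy2 (mul_eq_one_iff_eq_inv.2 this)
  have hC2 : ∀ c ∈ C, c * c = 1 := by
    have key : ∀ i : ℕ, ∀ c ∈ C, c ^ 2 ^ i = 1 → c * c = 1 := by
      intro i
      induction i with
      | zero => intro c _ h; rw [pow_zero, pow_one] at h; rw [h, one_mul]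
      | succ i ih =>
        intro c hc h
        by_contra hcc
        exact hroot c hc hcc (ih _ (mul_mem hc hc) (by rw [← pow_two, ← pow_mul, ← pow_succ']; exact h))
    intro c hc
    obtain ⟨i, hi⟩ := T.2 ⟨c, hc.1⟩
    exact key i c hc (congrArg Subtype.val hi)
  have huniq : ∀ c ∈ C, ∀ d ∈ C, c ≠ 1 → d ≠ 1 → c = d := by
    intro c hc d hd hc1 hd1
    by_contra hne
    have hcd1 : c * d ≠ 1 := fun h => hne (mul_right_cancel (h.trans (hC2 d hd).symm))
    obtain ⟨⟨y, hy, hy4, hy2⟩, hinvc⟩ := hinvert c hc (hC2 c hc) hc1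
    obtain ⟨-, hinvd⟩ := hinvert d hd (hC2 d hd) hd1
    obtain ⟨-, hinvcd⟩ := hinvert _ (mul_mem hc hd) (hC2 _ (mul_mem hc hd)) hcd1
    have h := hinvcd y hy hy4
    rw [show c * d * y * (c * d)⁻¹ = c * (d * y * d⁻¹) * c⁻¹ by group, hinvd y hy hy4,
      show c * y⁻¹ * c⁻¹ = (c * y * c⁻¹)⁻¹ by group, hinvc y hy hy4, inv_inv] at h
    exact hy2 (mul_eq_one_iff_eq_inv.2 h)
  have hW' := card_dvd_of_le (hWX.trans hXT)
  rw [hW4] at hW'
  by_cases hC1 : ∀ c ∈ C, c = 1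
  · -- `T` is commutative
    have hTX : (T : Subgroup G) ≤ X := fun t ht => by
      obtain ⟨x, hx, c, hc, rfl⟩ := F.decomp ht
      rwa [hC1 c hc, mul_one]
    have habT : ∀ a ∈ (T : Subgroup G), ∀ b ∈ (T : Subgroup G), a * b = b * a :=
      fun a ha b hb => hab a (hTX ha) b (hTX hb)
    have h4 : Nat.card {x : (T : Subgroup G) // x ^ 2 = 1} = 4 := by
      rw [← hW4]
      refine Nat.card_congr
        { toFun := fun x => ⟨x.1, hTX x.1.2, by
            have := congrArg Subtype.val x.2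
            rwa [pow_two, coe_mul, coe_one] at this⟩
          invFun := fun w => ⟨⟨w.1, hXT w.2.1⟩, Subtype.ext (by rw [pow_two, coe_mul, coe_one]; exact w.2.2)⟩
          left_inv := fun x => rfl
          right_inv := fun w => rfl }
    have hge : 4 ≤ Nat.card (T : Subgroup G) := Nat.le_of_dvd Nat.card_pos hW'
    by_contra hne
    have hO : ∀ N : Subgroup G, N.Normal → Odd (Nat.card N) → N = ⊥ := by
      intro N hN hodd
      rcases hN.eq_bot_or_eq_top with e | e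
      · exact e
      · exfalso
        rw [e, card_top] at hodd
        have h2 : 2 ∣ Nat.card G :=
          (show 2 ∣ 4 by norm_num).trans (hW'.trans (card_subgroup_dvd_card _))
        exact (Nat.not_even_iff_odd.2 hodd) (even_iff_two_dvd.2 h2)
    obtain ⟨hn, -, -⟩ := Block.HomocyclicTwo.normal_of_fourTorsion G T habT h4 (by omega) hO
    rcases hn.eq_bot_or_eq_top with e | e
    · rw [e, card_bot] at hge; omega
    · exact hna ⟨⟨fun a b => habT a (e ▸ mem_top a) b (e ▸ mem_top b)⟩⟩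
  -- an involution outside
  exfalso
  push Not at hC1
  obtain ⟨c, hc, hc1⟩ := hC1
  have hcX : c ∉ X := fun h => hc1 (hCX c hc h)
  have hc2 := hC2 c hc
  have hdec : ∀ t ∈ (T : Subgroup G), t ∈ X ∨ ∃ x ∈ X, t = x * c := by
    intro t ht
    obtain ⟨x, hx, d, hd, rfl⟩ := F.decomp ht
    by_cases hd1 : d = 1
    · exact Or.inl (by rwa [hd1, mul_one])
    · exact Or.inr ⟨x, hx, by rw [huniq d hd c hc hd1 hc1]⟩
  have hidx : X.relIndex (T : Subgroup G) = 2 := by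
    refine index_eq_two_iff.2 ⟨⟨c, hc.1⟩, fun b => ?_⟩
    simp only [mem_subgroupOf, coe_mul]
    rcases hdec b b.2 with h | ⟨x, hx, h⟩
    · exact Or.inr ⟨h, fun h' => hcX (by simpa using mul_mem (inv_mem h) h')⟩
    · exact Or.inl ⟨by rw [h, mul_assoc, hc2, mul_one]; exact hx,
        fun h' => hcX (by simpa [h] using mul_mem (inv_mem hx) h')⟩
  obtain ⟨⟨y₀, hy₀, hy₀4, hy₀2⟩, hinv⟩ := hinvert c hc hc2 hc1
  have htwist : ∀ e ∈ (T : Subgroup G), e ∉ X → ∀ w ∈ W, ∃ y ∈ X, y * e * y⁻¹ = w * e := by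
    intro e he heX w hw
    obtain ⟨y, hy, hyw⟩ : ∃ y ∈ X, y * y = w := by
      rcases horbit _ hy₀4 hy₀2 w hw with h | h | h | h
      · exact ⟨1, one_mem X, by rw [h, one_mul]⟩
      · exact ⟨y₀, hy₀, h.symm⟩
      · exact ⟨n * y₀ * n⁻¹, F.twisted_n hy₀, by rw [h]; group⟩
      · exact ⟨y₀ * (n * y₀ * n⁻¹), mul_mem hy₀ (F.twisted_n hy₀), by
          rw [(show Commute (n * y₀ * n⁻¹) y₀ from hab _ (F.twisted_n hy₀) _ hy₀).mul_mul_mul_comm, h]
          group⟩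
    obtain ⟨x, hx, rfl⟩ := (hdec e he).resolve_left heX
    refine ⟨y, hy, ?_⟩
    have h1 : c * y⁻¹ * c⁻¹ = y := by
      rw [show c * y⁻¹ * c⁻¹ = (c * y * c⁻¹)⁻¹ by group, hinv y hy (by rw [hyw]; exact hw), inv_inv]
    calc y * (x * c) * y⁻¹ = (y * x) * (c * y⁻¹ * c⁻¹) * c := by group
      _ = y * (x * y) * c := by rw [h1]; group
      _ = y * (y * x) * c := by rw [hab x hx y hy]
      _ = _ := by rw [← hyw]; group
  have hno := not_fused T hXT hWX hW4 hW2 (fun x hx h => ⟨hx, h⟩) hWc hidx hc.1 hc2 hcX htwist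
  obtain ⟨M, hMn, hM2, hcM⟩ := Fusion.thompson_transfer T hXT hidx (u := c) (by rw [pow_two]; exact hc2) hno
  rcases hMn.eq_bot_or_eq_top with e | e
  · rw [e, index_bot] at hM2
    exact hna ⟨⟨fun p r => by
      haveI := isCyclic_of_prime_card (α := G) (p := 2) hM2
      exact (IsCyclic.commGroup (α := G)).mul_comm p r⟩⟩
  · rw [e, index_top] at hM2
    omega

end CfsgLib.NormalRankTwo
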