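import Cfsg.Agent.Lib.NormalRankTwo.Layers

/-!
# The shape of the twisted part

A 2-group with the standing hypotheses is commutative, or has a small central invariant subgroup with
elementary quotient of order four (quaternion type) or sixteen.
-/

set_option autoImplicit false
set_option linter.unusedSectionVars false
set_option linter.style.haveILetI false

open Subgroup

namespace CfsgLib.NormalRankTwo

open CfsgLib.CFun.NoEight

universe u

variable {X : Type u} [Group X] [Finite X] {A B : Subgroup (MulAut X)} {φ : MulAut X}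

/-- The subgroup of involutions of a commutative subgroup. -/
def omegaAb (U : Subgroup X) (hUab : ∀ a ∈ U, ∀ b ∈ U, a * b = b * a) : Subgroup X where
  carrier := {w | w ∈ U ∧ w * w = 1}
  one_mem' := ⟨U.one_mem, one_mul 1⟩
  mul_mem' := fun {a b} ha hb => ⟨U.mul_mem ha.1 hb.1, by
    rw [(show Commute b a from hUab b hb.1 a ha.1).mul_mul_mul_comm, ha.2, hb.2, one_mul]⟩
  inv_mem' := fun {a} ha => ⟨U.inv_mem ha.1, by rw [← mul_inv_rev, ha.2, inv_one]⟩

theorem omegaAb_inv {C : Subgroup (MulAut X)} {U : Subgroup X} (hUab : ∀ a ∈ U, ∀ b ∈ U, a * b = b * a)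
    (hU : Inv C U) : Inv C (omegaAb U hUab) :=
  fun ψ hψ w hw => ⟨hU ψ hψ w hw.1, by rw [← map_mul, hw.2, map_one]⟩

/-- The possible sizes of a small elementary quotient. -/
theorem Quot.index_cases (H : Setting A B φ) {W : Subgroup X} (Q : Quot A φ W) (hW4 : Nat.card W ≤ 4) :
    (∀ a b : X, a * b = b * a) ∨ W.index = 4 ∨ W.index = 16 := by
  haveI : Fact (Nat.Prime 2) := ⟨Nat.prime_two⟩
  have h16 : W.index ≤ 16 := by
    have h := H.sect ⊤ W fun a _ => Q.sq a
    rwa [relIndex_top_right] at h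
  obtain ⟨d, hd⟩ := H.two.index W
  have hd4 : d ≤ 4 := by
    rw [hd] at h16
    exact (Nat.pow_le_pow_iff_right (a := 2) one_lt_two).1 (h16.trans (by norm_num))
  interval_cases d
  · left
    intro a b
    have hT : W = ⊤ := index_eq_one.1 (by rw [hd, pow_zero])
    exact Q.cen (hT ▸ mem_top b) a
  · exact absurd (by rw [hd, pow_one]) Q.index_ne_two
  · exact Or.inr (Or.inl (by rw [hd]; norm_num))
  · exact Or.inl (Q.index_eight (by rw [hd]; norm_num) hW4)
  · exact Or.inr (Or.inr (by rw [hd]; norm_num))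

/-- An involution outside a central fixed subgroup with quotient of order four is central. -/
theorem Quot.involution_central {W : Subgroup X} (Q : Quot A φ W) (h4 : W.index = 4) {t : X}
    (ht : t * t = 1) (htW : t ∉ W) : t ∈ center X := by
  classical
  haveI := Q.normal
  set y := φ t with hy
  have hyW : y ∉ W := Q.not_mem_image Q.inv htW
  have hy2 : y * y = 1 := by rw [hy, ← map_mul, ht, map_one]
  have hti : t⁻¹ = t := inv_eq_of_mul_eq_one_right ht
  have hyi : y⁻¹ = y := inv_eq_of_mul_eq_one_right hy2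
  have hyt : y * t ∉ W := fun h => htW (Q.eq_of_mod Q.inv Q.cm (u := t) (by rw [← hy, hti]; exact h))
  -- the coset of `t`
  set K := W ⊔ zpowers t
  haveI := Q.hsup (le_sup_left : W ≤ K)
  have hrK : W.relIndex K = 2 := relIndex_adjoin (Q.sq t) htW
  have hK2 : K.index = 2 := by
    have := relIndex_mul_index (H := W) (K := K) le_sup_left
    rw [hrK, h4] at this; omega
  have htK : t ∈ K := mem_sup_right (mem_zpowers t)
  have twoK : ∀ a ∈ K, ∀ b ∈ K, a * b ∈ W ↔ (a ∈ W ↔ b ∈ W) := fun a ha b hb => by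
    have := mul_mem_iff_of_index_two (H := W.subgroupOf K) hrK (a := ⟨a, ha⟩) (b := ⟨b, hb⟩)
    simpa only [mem_subgroupOf, coe_mul] using this
  have hyK : y ∉ K := fun h => hyt ((twoK y h t htK).2 (iff_of_false hyW htW))
  -- the third involution
  set v := φ y with hv
  have hvW : v ∉ W := Q.not_mem_image Q.inv hyW
  have hv2 : v * v = 1 := by rw [hv, ← map_mul, hy2, map_one]
  have hvy : v * y ∉ W := fun h => hyW (Q.eq_of_mod Q.inv Q.cm (u := y) (by rw [← hv, hyi]; exact h))
  have hvK : v ∉ K := by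
    intro h
    have hvt : v * t ∈ W := (twoK v h t htK).2 (iff_of_false hvW htW)
    have hfix : φ (t * y) * (t * y)⁻¹ ∈ W := by
      rw [map_mul, ← hy, ← hv, mul_inv_rev, hti, hyi,
        show y * v * (y * t) = (y * (v * t) * y⁻¹) * ((y * t⁻¹) * y * (y * t⁻¹)⁻¹ * y⁻¹) * (y * y) by group,
        hy2, mul_one]
      exact mul_mem (Q.normal.conj_mem _ hvt y) (Q.cm _ _)
    have hty : t * y ∈ W := Q.eq_of_mod Q.inv Q.cm hfix
    refine hyt ?_
    have := inv_mem hty
    rwa [mul_inv_rev, hti, hyi] at this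
  have hvyK : v * y ∈ K := (mul_mem_iff_of_index_two hK2).2 (iff_of_false hvK hyK)
  have hw : v * y * t ∈ W := (twoK _ hvyK t htK).2 (iff_of_false hvy htW)
  obtain ⟨w, hwW, hwe⟩ : ∃ w ∈ W, v = w * (t * y) := ⟨v * y * t, hw, by
    rw [show v * y * t * (t * y) = v * y * (t * t) * y by group, ht, mul_one, mul_assoc, hy2, mul_one]⟩
  have hty2 : t * y * (t * y) = 1 := by
    rw [hwe] at hv2
    have hc : t * y * w = w * (t * y) := Q.cen hwW _
    calc t * y * (t * y) = (w * w) * (t * y * (t * y)) := by rw [Q.exp2 w hwW, one_mul]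
      _ = w * (w * (t * y)) * (t * y) := by group
      _ = w * (t * y * w) * (t * y) := by rw [hc]
      _ = w * (t * y) * (w * (t * y)) := by group
      _ = 1 := hv2
  have hcomm : t * y = y * t := by
    calc t * y = (t * y)⁻¹ := (inv_eq_of_mul_eq_one_right hty2).symm
      _ = y * t := by rw [mul_inv_rev, hti, hyi]
  -- the centralizer of `t` is everything
  set C := centralizer ({t} : Set X)
  have hKC : K ≤ C := sup_le (fun a ha => mem_centralizer_singleton_iff.2 (Q.cen ha t).symm)
    (zpowers_le.2 (mem_centralizer_singleton_iff.2 rfl))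
  have hC : C.index = 1 := by
    have h2 := relIndex_mul_index hKC
    rw [hK2] at h2
    rcases (Nat.dvd_prime Nat.prime_two).1 (Dvd.intro _ h2) with e | e
    · exact absurd (relIndex_eq_one.1 e (mem_centralizer_singleton_iff.2 hcomm.symm)) hyK
    · rw [e] at h2; omega
  refine mem_center_iff.2 fun g => ?_
  have hg : g ∈ C := by rw [index_eq_one.1 hC]; exact mem_top g
  exact mem_centralizer_singleton_iff.1 hg

/-- The shape of `X`. -/
def Shape (A B : Subgroup (MulAut X)) (φ : MulAut X) : Prop :=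
  (∀ a b : X, a * b = b * a) ∨
    ∃ W : Subgroup X, Inv B W ∧ Quot A φ W ∧ Nat.card W ≤ 4 ∧
      ((Nat.card W = 2 ∧ W.index = 4 ∧ ∀ x : X, x * x = 1 → x ∈ W) ∨ W.index = 16)

/-- All involutions of a maximal invariant abelian subgroup are fixed. -/
theorem shape_fixed (H : Setting A B φ) {U : Subgroup X} (hUB : Inv B U)
    (hUab : ∀ a ∈ U, ∀ b ∈ U, a * b = b * a) (hcU : center X ≤ U)
    (hmax : ∀ Q : Subgroup X, Q.Normal → Inv B Q → (∀ a ∈ Q, ∀ b ∈ Q, a * b = b * a) → U ≤ Q → Q ≤ U)
    (hfix : ∀ w ∈ U, w * w = 1 → φ w = w) : Shape A B φ := by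
  classical
  haveI := H.normal hUB
  have hfixφ : ∀ u ∈ U, φ u = u :=
    fixed_of_fixed_omega H.two H.odd hUab (H.inv_left hUB) H.phi_mem hfix
  have hfixA : ∀ ψ ∈ A, ∀ u ∈ U, ψ u = u := by
    intro ψ hψ
    rw [H.eq] at hψ
    obtain ⟨i, rfl⟩ := mem_powers_iff_mem_zpowers.2 hψ
    clear hψ
    show ∀ u ∈ U, (φ ^ i) u = u
    intro u hu
    induction i with
    | zero => rw [pow_zero, MulAut.one_apply]
    | succ i ih => rw [pow_succ, MulAut.mul_apply, hfixφ u hu, ih]
  have hUc : U ≤ center X := le_center_of_fixed H.twist hfixA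
  have hlayer := centralizer_layer H.two hUab hUB hmax
  have hall : ∀ x : X, x ∈ centralizer (U : Set X) := fun x =>
    mem_centralizer_iff.2 fun u hu => (mem_center_iff.1 (hUc hu) x).symm
  have hsq : ∀ x : X, x * x ∈ U := fun x => (hlayer x (hall x)).1
  have hle : commutator X ≤ omegaAb U hUab := by
    rw [_root_.commutator_def, commutator_le]
    intro a _ b _
    rw [commutatorElement_def]
    exact (hlayer a (hall a)).2 b (hall b)
  have hUD : U ≤ commutator X := fun u hu =>
    mem_of_fixed H.two H.odd H.twist (commutator_inv A) mem_commutator_of fun ψ hψ => by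
      rw [hfixA ψ hψ u hu, mul_inv_cancel]; exact one_mem _
  have hU2 : ∀ u ∈ U, u * u = 1 := fun u hu => (hle (hUD hu)).2
  have hU4 : Nat.card U ≤ 4 := H.small U hUB hU2
  have Q : Quot A φ U :=
    { toCyc := H.toCyc, central := hUc, exp2 := hU2,
      inv := fun x hx => hUB φ (H.le H.phi_mem) x hx, sq := hsq }
  rcases Q.index_cases H hU4 with hab | h4 | h16
  · exact Or.inl hab
  · obtain ⟨c, -, hcU2, hc⟩ := Q.index_four h4
    by_cases hc1 : c = 1
    · refine Or.inl fun a b => ?_
      rcases hc a b with h | h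
      · rwa [mul_inv_eq_one, mul_inv_eq_iff_eq_mul] at h
      · rwa [hc1, mul_inv_eq_one, mul_inv_eq_iff_eq_mul] at h
    refine Or.inr ⟨U, hUB, Q, hU4, Or.inl ⟨?_, h4, fun x hx => ?_⟩⟩
    · have hUz : U ≤ zpowers c := hUD.trans (by
        rw [_root_.commutator_def, commutator_le]
        intro a _ b _
        rw [commutatorElement_def]
        rcases hc a b with h | h <;> rw [h]
        exacts [one_mem _, mem_zpowers c])
      have he : U = zpowers c := le_antisymm hUz (zpowers_le.2 hcU2)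
      rw [he, Nat.card_zpowers]
      exact orderOf_eq_prime (by rw [pow_two]; exact hU2 c hcU2) hc1
    · by_contra hxU
      exact hxU (hcU (Q.involution_central h4 hx hxU))
  · exact Or.inr ⟨U, hUB, Q, hU4, Or.inr h16⟩

/-- Some involution of a maximal invariant abelian subgroup is moved. -/
theorem shape_moved (H : Setting A B φ) {U : Subgroup X} (hUB : Inv B U)
    (hUab : ∀ a ∈ U, ∀ b ∈ U, a * b = b * a)
    (hmax : ∀ Q : Subgroup X, Q.Normal → Inv B Q → (∀ a ∈ Q, ∀ b ∈ Q, a * b = b * a) → U ≤ Q → Q ≤ U)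
    {w₀ : X} (hw₀ : w₀ ∈ U) (hw₀2 : w₀ * w₀ = 1) (hmove : φ w₀ ≠ w₀) : Shape A B φ := by
  classical
  haveI : Fact (Nat.Prime 2) := ⟨Nat.prime_two⟩
  haveI hUn : U.Normal := H.normal hUB
  set W := omegaAb U hUab
  have hWB : Inv B W := omegaAb_inv hUab hUB
  have hWi : Inv A W := H.inv_left hWB
  have hW2 : ∀ w ∈ W, w * w = 1 := fun w hw => hw.2
  have hw₀W : w₀ ∈ W := ⟨hw₀, hw₀2⟩
  have hw₀1 : w₀ ≠ 1 := fun h => hmove (by rw [h, map_one])
  have hW4 : Nat.card W = 4 := by
    have hle := H.small W hWB hW2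
    have hsub : ({1, w₀, φ w₀} : Finset X) ⊆ (Set.toFinite (W : Set X)).toFinset := by
      intro s hs
      rw [Set.Finite.mem_toFinset]
      simp only [Finset.mem_insert, Finset.mem_singleton] at hs
      rcases hs with rfl | rfl | rfl
      · exact W.one_mem
      · exact hw₀W
      · exact hWi φ H.phi_mem _ hw₀W
    have hcard := Finset.card_le_card hsub
    rw [← Set.ncard_eq_toFinset_card _, ← Nat.card_coe_set_eq, Finset.card_insert_of_notMem (by
      simp only [Finset.mem_insert, Finset.mem_singleton, not_or]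
      exact ⟨hw₀1.symm, fun h => hw₀1 (φ.injective (h.symm.trans (map_one φ).symm))⟩),
      Finset.card_pair hmove.symm] at hcard
    have hcard' : 3 ≤ Nat.card W := hcard
    obtain ⟨d, hd⟩ := IsPGroup.iff_card.1 (H.two.to_subgroup W)
    rw [hd] at hle hcard' ⊢
    have : d ≤ 2 := (Nat.pow_le_pow_iff_right (a := 2) one_lt_two).1 (hle.trans (by norm_num))
    interval_cases d <;> simp_all
  have F : FourAct A W φ := ⟨H.odd, hW4, hW2, hWi, H.phi_mem, fun w hw h => by
    by_contra hw1
    exact hmove (fix_all H.odd hW4 hW2 hWi H.phi_mem hw hw1 h w₀ hw₀W)⟩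
  have hWc : W ≤ center X := by
    haveI := H.two.isNilpotent
    haveI := H.normal hWB
    have hne : W ≠ ⊥ := fun h => by rw [h, Subgroup.card_bot] at hW4; omega
    haveI : Nontrivial ↥(W ⊓ center X) :=
      (nontrivial_iff_ne_bot _).2 (CfsgLib.Coprime.nilpotent_inf_center_ne_bot _ hne)
    obtain ⟨c, hc⟩ := exists_ne (1 : ↥(W ⊓ center X))
    exact F.le_of_inv (fun x hx => center_inv A φ H.phi_mem x hx) c.2.1 c.2.2 fun h => hc (Subtype.ext h)
  -- once all squares lie in `W`
  have fin : (∀ x : X, x * x ∈ W) → Shape A B φ := by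
    intro hsq
    have Q : Quot A φ W :=
      { toCyc := H.toCyc, central := hWc, exp2 := hW2, inv := fun x hx => hWi φ H.phi_mem x hx, sq := hsq }
    rcases Q.index_cases H hW4.le with hab | h4 | h16
    · exact Or.inl hab
    · obtain ⟨c, hcf, hcW, hc⟩ := Q.index_four h4
      have hc1 : c = 1 := F.hfree c hcW hcf
      refine Or.inl fun a b => ?_
      rcases hc a b with h | h
      · rwa [mul_inv_eq_one, mul_inv_eq_iff_eq_mul] at h
      · rwa [hc1, mul_inv_eq_one, mul_inv_eq_iff_eq_mul] at h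
    · exact Or.inr ⟨W, hWB, Q, hW4.le, Or.inr h16⟩
  by_cases hUW : U ≤ W
  · refine fin fun x => ?_
    have hx : x ∈ centralizer (U : Set X) :=
      mem_centralizer_iff.2 fun u hu => (mem_center_iff.1 (hWc (hUW hu)) x).symm
    exact hUW (centralizer_layer H.two hUab hUB hmax x hx).1
  -- exponent at least four
  have hex : ∃ i, ∀ u ∈ U, u ^ 2 ^ i = 1 := by
    obtain ⟨n, hn⟩ := IsPGroup.iff_card.1 H.two
    exact ⟨n, fun u _ => by rw [← hn]; exact pow_card_eq_one'⟩
  set k := Nat.find hex with hkdef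
  have hexp : ∀ u ∈ U, u ^ 2 ^ k = 1 := Nat.find_spec hex
  have hk : 2 ≤ k := by
    by_contra h
    refine hUW fun u hu => ⟨hu, ?_⟩
    have h1 := hexp u hu
    rcases (show k = 0 ∨ k = 1 by omega) with e | e
    · rw [e, pow_zero, pow_one] at h1; rw [h1, one_mul]
    · rwa [e, pow_one, pow_two] at h1
  have hmin : ∃ u ∈ U, u ^ 2 ^ (k - 1) ≠ 1 := by
    have := Nat.find_min hex (show k - 1 < Nat.find hex by omega)
    push Not at this
    exact this
  have S : Layer A U W φ k :=
    { F := F, hUn := hUn, hUi := H.inv_left hUB, hUab := hUab, hWU := fun w hw => hw.1, hWc := hWc,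
      hom1 := fun u hu h => ⟨hu, h⟩, hk := hk, hexp := hexp, hmin := hmin }
  have hCU : ∀ x : X, (∀ u ∈ U, brk x u = 1) → x ∈ U := fun x hx =>
    centralizer_le H S hUB hWB hmax (mem_centralizer_iff.2 fun u hu => by
      have h : x * u * x⁻¹ * u⁻¹ = 1 := hx u hu
      rw [mul_inv_eq_one, mul_inv_eq_iff_eq_mul] at h
      exact h.symm)
  rcases eq_or_lt_of_le hk with h2 | h3
  · exact fin (S.sq_mem H.two H.twist hCU h2.symm)
  · by_cases hT : U = ⊤
    · exact Or.inl fun a b => hUab a (hT ▸ mem_top a) b (hT ▸ mem_top b)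
    · exact (false_of_three_le H S hUB hWB hCU hT h3).elim

/-- The structure of `X`. -/
theorem shape (H : Setting A B φ) : Shape A B φ := by
  classical
  let p : Subgroup X → Prop := fun S => Inv B S ∧ (∀ a ∈ S, ∀ b ∈ S, a * b = b * a) ∧ center X ≤ S
  haveI : Nonempty {S // p S} :=
    ⟨⟨center X, center_inv B, fun a _ b hb => mem_center_iff.1 hb a, le_rfl⟩⟩
  obtain ⟨⟨U, hUB, hUab, hcU⟩, hbig⟩ := Finite.exists_max fun S : {S // p S} => Nat.card S.1
  have hmax : ∀ S : Subgroup X, S.Normal → Inv B S → (∀ a ∈ S, ∀ b ∈ S, a * b = b * a) → U ≤ S → S ≤ U :=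
    fun S _ h2 h3 h4 => (eq_of_le_of_card_ge h4 (hbig ⟨S, h2, h3, hcU.trans h4⟩)).ge
  by_cases hfix : ∀ w ∈ U, w * w = 1 → φ w = w
  · exact shape_fixed H hUB hUab hcU hmax hfix
  push Not at hfix
  obtain ⟨w, hw, hw2, hmove⟩ := hfix
  exact shape_moved H hUB hUab hmax hw hw2 hmove

end CfsgLib.NormalRankTwo
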