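import Cfsg.Agent.Lib.CFun.NoEightFour

/-!
# Normal rank two with an odd automorphism: small elementary quotients

`A` is generated by an automorphism `φ` of odd order and `W` is a small central subgroup of exponent two
containing all squares.
-/

set_option autoImplicit false
set_option linter.unusedSectionVars false
set_option linter.style.haveILetI false

open Subgroup

namespace CfsgLib.NormalRankTwo

open CfsgLib.CFun.NoEight

universe u

variable {X : Type u} [Group X] [Finite X]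

/-- An element fixed by the square of a map of odd order is fixed. -/
theorem odd_fix {α : Type*} {f : α → α} {m : ℕ} (hm : ∀ a, f^[2 * m + 1] a = a) {a : α} (h : f (f a) = a) :
    f a = a := by
  have : ∀ i : ℕ, f^[2 * i] a = a := by
    intro i
    induction i with
    | zero => rfl
    | succ i ih => rw [show 2 * (i + 1) = 2 + 2 * i by ring, Function.iterate_add_apply, ih]; exact h
  have h2 := hm a
  rw [show 2 * m + 1 = 1 + 2 * m by ring, Function.iterate_add_apply, this, Function.iterate_one] at h2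
  exact h2

theorem pow_eq_iterate (φ : MulAut X) (a : X) : ∀ i : ℕ, (φ ^ i) a = (φ : X → X)^[i] a := by
  intro i
  induction i with
  | zero => rfl
  | succ i ih => rw [Function.iterate_succ_apply', ← ih, pow_succ', MulAut.mul_apply]

/-- The standing data: `A = ⟨φ⟩` of odd order generating by twists. -/
structure Cyc (A : Subgroup (MulAut X)) (φ : MulAut X) : Prop where
  eq : A = zpowers φ
  two : IsPGroup 2 X
  odd : Odd (Nat.card A)
  twist : GenByTwist A

namespace Cyc

variable {A : Subgroup (MulAut X)} {φ : MulAut X} (H : Cyc A φ)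
include H

theorem phi_mem : φ ∈ A := by rw [H.eq]; exact mem_zpowers φ

theorem odd_order : ∃ m : ℕ, orderOf φ = 2 * m + 1 := by
  obtain ⟨m, hm⟩ := H.odd
  exact ⟨m, by rw [← hm, H.eq, Nat.card_zpowers]⟩

theorem iter_odd : ∃ m : ℕ, ∀ a : X, (φ : X → X)^[2 * m + 1] a = a := by
  obtain ⟨m, hm⟩ := H.odd_order
  exact ⟨m, fun a => by rw [← pow_eq_iterate, ← hm, pow_orderOf_eq_one, MulAut.one_apply]⟩

theorem inv_of_phi {N : Subgroup X} (hN : ∀ x ∈ N, φ x ∈ N) : Inv A N := by
  intro ψ hψ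
  rw [H.eq] at hψ
  obtain ⟨i, rfl⟩ := mem_powers_iff_mem_zpowers.2 hψ
  clear hψ
  show ∀ x ∈ N, (φ ^ i) x ∈ N
  intro x hx
  induction i generalizing x with
  | zero => rwa [pow_zero, MulAut.one_apply]
  | succ i ih =>
    rw [pow_succ, MulAut.mul_apply]
    exact ih (φ x) (hN x hx)

/-- The image of an element outside an invariant subgroup is outside it. -/
theorem not_mem_image {N : Subgroup X} (hN : ∀ x ∈ N, φ x ∈ N) {x : X} (hx : x ∉ N) : φ x ∉ N := by
  intro h
  obtain ⟨m, hm⟩ := H.iter_odd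
  have hpow : ∀ i : ℕ, (φ : X → X)^[i + 1] x ∈ N := by
    intro i
    induction i with
    | zero => simpa using h
    | succ i ih => rw [Function.iterate_succ_apply']; exact hN _ ih
  have := hpow (2 * m)
  rw [hm] at this
  exact hx this

/-- No element is fixed modulo a proper invariant subgroup containing the commutators. -/
theorem eq_of_mod {N : Subgroup X} [N.Normal] (hN : ∀ x ∈ N, φ x ∈ N)
    (hab : ∀ x y : X, x * y * x⁻¹ * y⁻¹ ∈ N) {u : X} (hu : φ u * u⁻¹ ∈ N) : u ∈ N := by
  refine mem_of_fixed H.two H.odd H.twist (H.inv_of_phi hN) hab fun ψ hψ => ?_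
  rw [H.eq] at hψ
  obtain ⟨i, rfl⟩ := mem_powers_iff_mem_zpowers.2 hψ
  clear hψ
  show (φ ^ i) u * u⁻¹ ∈ N
  induction i with
  | zero => rw [pow_zero, MulAut.one_apply, mul_inv_cancel]; exact one_mem _
  | succ i ih =>
    rw [pow_succ', MulAut.mul_apply,
      show φ ((φ ^ i) u) * u⁻¹ = φ ((φ ^ i) u * u⁻¹) * (φ u * u⁻¹) by rw [map_mul, map_inv]; group]
    exact mul_mem (hN _ ih) hu

/-- An invariant normal subgroup with commutators inside is not of index two in an invariant subgroup. -/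
theorem relIndex_ne_two {N M : Subgroup X} [N.Normal] (hN : ∀ x ∈ N, φ x ∈ N)
    (hab : ∀ x y : X, x * y * x⁻¹ * y⁻¹ ∈ N) (hM : ∀ x ∈ M, φ x ∈ M) : N.relIndex M ≠ 2 := by
  intro h2
  obtain ⟨u, hu, huN⟩ : ∃ u ∈ M, u ∉ N := by
    by_contra h
    push Not at h
    rw [relIndex_eq_one.2 h] at h2
    omega
  refine huN (H.eq_of_mod hN hab ?_)
  have := mul_mem_iff_of_index_two (H := N.subgroupOf M) h2 (a := ⟨φ u, hM u hu⟩) (b := (⟨u, hu⟩ : M)⁻¹)
  simp only [mem_subgroupOf, inv_mem_iff, coe_mul, coe_inv] at this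
  exact this.2 (iff_of_false (H.not_mem_image hN huN) huN)

end Cyc

/-- Adjoining an element whose square is in a normal subgroup. -/
theorem relIndex_adjoin {N : Subgroup X} [N.Normal] {s : X} (hs : s * s ∈ N) (hsN : s ∉ N) :
    N.relIndex (N ⊔ zpowers s) = 2 := by
  rw [relIndex, index_eq_two_iff]
  refine ⟨⟨s, mem_sup_right (mem_zpowers s)⟩, fun b => ?_⟩
  simp only [mem_subgroupOf, coe_mul]
  obtain ⟨n, hn, y, ⟨i, rfl⟩, hb⟩ := mem_sup_of_normal_left.1 b.2
  have hsq : ∀ j : ℤ, s ^ (2 * j) ∈ N := fun j => by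
    rw [zpow_mul, show s ^ (2 : ℤ) = s * s by rw [zpow_two]]
    exact zpow_mem hs j
  rcases Int.even_or_odd i with ⟨j, rfl⟩ | ⟨j, rfl⟩
  · have hbN : (b : X) ∈ N := by rw [← hb]; exact mul_mem hn (by rw [← two_mul]; exact hsq j)
    exact Or.inr ⟨hbN, fun h => hsN (by simpa using mul_mem (inv_mem hbN) h)⟩
  · refine Or.inl ⟨?_, fun h => hsN ?_⟩
    · rw [← hb, show n * (fun j : ℤ => s ^ j) (2 * j + 1) * s = n * (s ^ (2 * j) * (s * s)) by
        simp only [zpow_add, zpow_one]; group]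
      exact mul_mem hn (mul_mem (hsq j) hs)
    · have h2 := mul_mem (inv_mem (hsq j)) (mul_mem (inv_mem hn) h)
      rw [← hb] at h2
      simpa [zpow_add, mul_assoc] using h2

/-- A small central subgroup of exponent two containing the squares. -/
structure Quot (A : Subgroup (MulAut X)) (φ : MulAut X) (W : Subgroup X) : Prop extends Cyc A φ where
  central : W ≤ center X
  exp2 : ∀ w ∈ W, w * w = 1
  inv : ∀ x ∈ W, φ x ∈ W
  sq : ∀ x : X, x * x ∈ W

namespace Quot

variable {A : Subgroup (MulAut X)} {φ : MulAut X} {W : Subgroup X} (Q : Quot A φ W)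
include Q

theorem normal : W.Normal :=
  ⟨fun w hw g => by rw [mem_center_iff.1 (Q.central hw) g, mul_inv_cancel_right]; exact hw⟩

theorem cen {w : X} (hw : w ∈ W) (x : X) : x * w = w * x := mem_center_iff.1 (Q.central hw) x

theorem cm (a b : X) : a * b * a⁻¹ * b⁻¹ ∈ W := commutator_le_of_sq Q.sq (mem_commutator_of a b)

theorem comm_symm (a b : X) : b * a * b⁻¹ * a⁻¹ = a * b * a⁻¹ * b⁻¹ := by
  rw [show b * a * b⁻¹ * a⁻¹ = (a * b * a⁻¹ * b⁻¹)⁻¹ by group, inv_eq_of_mul_eq_one_right (Q.exp2 _ (Q.cm a b))]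

theorem comm_mul (a b d : X) :
    a * (b * d) * a⁻¹ * (b * d)⁻¹ = (a * b * a⁻¹ * b⁻¹) * (a * d * a⁻¹ * d⁻¹) := by
  calc a * (b * d) * a⁻¹ * (b * d)⁻¹ = (a * b * a⁻¹) * (a * d * a⁻¹ * d⁻¹) * b⁻¹ := by group
    _ = (a * b * a⁻¹) * (b⁻¹ * (a * d * a⁻¹ * d⁻¹)) := by rw [Q.cen (Q.cm a d) b⁻¹, mul_assoc]
    _ = _ := by group

theorem comm_w (a : X) {w : X} (hw : w ∈ W) : a * w * a⁻¹ * w⁻¹ = 1 := by
  rw [Q.cen hw a, mul_inv_cancel_right, mul_inv_cancel]

/-- Commutation with `a`, as a homomorphism. -/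
def brkHom (a : X) : X →* X where
  toFun b := a * b * a⁻¹ * b⁻¹
  map_one' := by group
  map_mul' := Q.comm_mul a

theorem brkHom_apply (a b : X) : Q.brkHom a b = a * b * a⁻¹ * b⁻¹ := rfl

/-- The commutators with `a` lie in `K` as soon as this holds on a generating set. -/
theorem brk_all {N K : Subgroup X} (hN : N = ⊤) {a : X} (h : N ≤ K.comap (Q.brkHom a)) (b : X) :
    a * b * a⁻¹ * b⁻¹ ∈ K := h (hN.symm ▸ mem_top b)

theorem hsup {N : Subgroup X} (hWN : W ≤ N) : N.Normal :=
  ⟨fun m hm g => by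
    rw [show g * m * g⁻¹ = (g * m * g⁻¹ * m⁻¹) * m by group]
    exact mul_mem (hWN (Q.cm g m)) hm⟩

/-- The quotient has not order two. -/
theorem index_ne_two : W.index ≠ 2 := by
  haveI := Q.normal
  rw [← relIndex_top_right]
  exact Q.relIndex_ne_two Q.inv Q.cm fun x _ => mem_top _

/-- With a quotient of order four the commutators are `1` and one fixed element. -/
theorem index_four (h4 : W.index = 4) :
    ∃ c : X, φ c = c ∧ c ∈ W ∧ ∀ a b : X, a * b * a⁻¹ * b⁻¹ = 1 ∨ a * b * a⁻¹ * b⁻¹ = c := by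
  classical
  haveI := Q.normal
  obtain ⟨x, hx⟩ : ∃ x : X, x ∉ W := by
    by_contra h
    push Not at h
    rw [(eq_top_iff' W).2 h, index_top] at h4
    omega
  have hy := Q.not_mem_image Q.inv hx
  have hyx : φ x * x⁻¹ ∉ W := fun h => hx (Q.eq_of_mod Q.inv Q.cm h)
  set y := φ x with hydef
  set c := x * y * x⁻¹ * y⁻¹ with hc
  -- `x` and `y` generate the quotient
  set N1 := W ⊔ zpowers x
  haveI := Q.hsup (le_sup_left : W ≤ N1)
  have hyN1 : y ∉ N1 := by
    intro h
    have h2 := relIndex_adjoin (Q.sq x) hx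
    have := mul_mem_iff_of_index_two (H := W.subgroupOf N1) h2 (a := ⟨y, h⟩)
      (b := (⟨x, mem_sup_right (mem_zpowers x)⟩ : N1)⁻¹)
    simp only [mem_subgroupOf, inv_mem_iff, coe_mul, coe_inv] at this
    exact hyx (this.2 (iff_of_false hy hx))
  have htop : N1 ⊔ zpowers y = ⊤ := by
    refine index_eq_one.1 ?_
    have e1 := relIndex_mul_index (H := W) (K := N1) le_sup_left
    have e2 := relIndex_mul_index (H := N1) (K := N1 ⊔ zpowers y) le_sup_left
    rw [relIndex_adjoin (le_sup_left (a := W) (Q.sq y)) hyN1] at e2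
    rw [relIndex_adjoin (Q.sq x) hx, ← e2, h4] at e1
    omega
  set K := zpowers c
  have hcK : c ∈ K := mem_zpowers c
  have hgen : ∀ a : X, a * x * a⁻¹ * x⁻¹ ∈ K → a * y * a⁻¹ * y⁻¹ ∈ K → ∀ b, a * b * a⁻¹ * b⁻¹ ∈ K := by
    intro a hax hay
    refine Q.brk_all htop (sup_le (sup_le (fun w hw => ?_) (zpowers_le.2 hax)) (zpowers_le.2 hay))
    show a * w * a⁻¹ * w⁻¹ ∈ K
    rw [Q.comm_w a hw]
    exact one_mem K
  have hone : ∀ a : X, a * a * a⁻¹ * a⁻¹ = 1 := fun a => by group
  have hxall := hgen x (by rw [hone]; exact one_mem K) hcK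
  have hyall := hgen y (by rw [Q.comm_symm x y]; exact hcK) (by rw [hone]; exact one_mem K)
  have hall : ∀ a b : X, a * b * a⁻¹ * b⁻¹ ∈ K := fun a =>
    hgen a (Q.comm_symm x a ▸ hxall a) (Q.comm_symm y a ▸ hyall a)
  have hcW : c ∈ W := Q.cm x y
  have hcases : ∀ k ∈ K, k = 1 ∨ k = c := by
    rintro _ ⟨i, rfl⟩
    rcases Int.even_or_odd i with ⟨j, rfl⟩ | ⟨j, rfl⟩
    · left; show c ^ (j + j) = 1; rw [← two_mul, zpow_mul, zpow_two, Q.exp2 c hcW, one_zpow]
    · right; show c ^ (2 * j + 1) = c; rw [zpow_add, zpow_mul, zpow_two, Q.exp2 c hcW, one_zpow, one_mul, zpow_one]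
  refine ⟨c, ?_, hcW, fun a b => hcases _ (hall a b)⟩
  have hφc : φ c = y * φ y * y⁻¹ * (φ y)⁻¹ := by simp [hc, hydef]
  rcases hcases _ (hall y (φ y)) with e | e
  · rw [← hφc] at e
    rw [e, φ.map_eq_one_iff.1 e]
  · rw [hφc, e]

/-- A quotient of order eight forces commutativity. -/
theorem index_eight (h8 : W.index = 8) (hW4 : Nat.card W ≤ 4) : ∀ a b : X, a * b = b * a := by
  classical
  haveI : Fact (Nat.Prime 2) := ⟨Nat.prime_two⟩
  haveI := Q.normal
  -- proper invariant subgroups above `W` do not exist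
  have hprop : ∀ N : Subgroup X, W ≤ N → (∀ x ∈ N, φ x ∈ N) → N = W ∨ N = ⊤ := by
    intro N hWN hNi
    haveI := Q.hsup hWN
    have hidx : W.relIndex N * N.index = 8 := (relIndex_mul_index hWN).trans h8
    obtain ⟨j, hj, hjN⟩ := (Nat.dvd_prime_pow Nat.prime_two).1
      (show W.relIndex N ∣ 2 ^ 3 from Dvd.intro _ hidx)
    rcases (show j = 0 ∨ j = 1 ∨ j = 2 ∨ j = 3 by omega) with rfl | rfl | rfl | rfl
    · exact Or.inl (le_antisymm (relIndex_eq_one.1 (by simpa using hjN)) hWN)
    · exact absurd (by simpa using hjN) (Q.relIndex_ne_two Q.inv Q.cm hNi)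
    · exfalso
      rw [hjN] at hidx
      refine Q.relIndex_ne_two hNi (fun a b => hWN (Q.cm a b)) (M := ⊤) (fun x _ => mem_top _) ?_
      rw [relIndex_top_right]
      omega
    · refine Or.inr (index_eq_one.1 ?_)
      rw [hjN] at hidx; omega
  by_contra hab
  push Not at hab
  obtain ⟨a0, b0, hab⟩ := hab
  have hcenter : center X = W := by
    rcases hprop (center X) Q.central (fun x hx => center_inv A φ Q.phi_mem x hx) with e | e
    · exact e
    · exact absurd (mem_center_iff.1 (e.symm ▸ mem_top b0) a0) hab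
  let C : X → Subgroup X := fun x => centralizer ({x} : Set X)
  have memC : ∀ {x y : X}, y ∈ C x ↔ x * y = y * x := fun {x y} => by
    rw [mem_centralizer_singleton_iff]; exact eq_comm
  have hWC : ∀ x, W ≤ C x := fun x w hw => memC.2 (Q.cen hw x)
  -- generators
  obtain ⟨x, hx⟩ : ∃ x : X, x ∉ W := by
    by_contra h
    push Not at h
    rw [(eq_top_iff' W).2 h, index_top] at h8
    omega
  set N1 := W ⊔ zpowers x
  haveI := Q.hsup (le_sup_left : W ≤ N1)
  have r1 : W.relIndex N1 = 2 := relIndex_adjoin (Q.sq x) hx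
  have i1 : N1.index = 4 := by
    have := relIndex_mul_index (H := W) (K := N1) le_sup_left
    rw [r1, h8] at this; omega
  obtain ⟨y, hy⟩ : ∃ y : X, y ∉ N1 := by
    by_contra h
    push Not at h
    rw [(eq_top_iff' N1).2 h, index_top] at i1
    omega
  set N2 := N1 ⊔ zpowers y
  haveI := Q.hsup ((le_sup_left : W ≤ N1).trans (le_sup_left : N1 ≤ N2))
  have r2 : N1.relIndex N2 = 2 := relIndex_adjoin (le_sup_left (a := W) (Q.sq y)) hy
  have i2 : N2.index = 2 := by
    have := relIndex_mul_index (H := N1) (K := N2) le_sup_left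
    rw [r2, i1] at this; omega
  obtain ⟨z, hz⟩ : ∃ z : X, z ∉ N2 := by
    by_contra h
    push Not at h
    rw [(eq_top_iff' N2).2 h, index_top] at i2
    omega
  have hWN1 : W ≤ N1 := le_sup_left
  have hxN1 : x ∈ N1 := mem_sup_right (mem_zpowers x)
  have hWN2 : W ≤ N2 := hWN1.trans le_sup_left
  have hxN2 : x ∈ N2 := le_sup_left (a := N1) hxN1
  have hyN2 : y ∈ N2 := mem_sup_right (mem_zpowers y)
  have htop : N2 ⊔ zpowers z = ⊤ := by
    refine index_eq_one.1 ?_
    have := relIndex_mul_index (H := N2) (K := N2 ⊔ zpowers z) le_sup_left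
    rw [relIndex_adjoin (hWN2 (Q.sq z)) hz, i2] at this
    omega
  -- an index two subgroup of `W`
  obtain ⟨M, hMW, hM2⟩ : ∃ M : Subgroup X, M ≤ W ∧ M.relIndex W = 2 := by
    obtain ⟨d, hd⟩ := IsPGroup.iff_card.1 (Q.two.to_subgroup W)
    have hd1 : d ≠ 0 := fun e => hab (by
      have h1 := Q.cm a0 b0
      rw [Subgroup.eq_bot_of_card_eq W (by rw [hd, e, pow_zero]), mem_bot, mul_inv_eq_one,
        mul_inv_eq_iff_eq_mul] at h1
      exact h1)
    obtain ⟨M, hM⟩ := Sylow.exists_subgroup_card_pow_prime 2 (G := W) (n := d - 1)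
      (hd ▸ pow_dvd_pow 2 (by omega))
    refine ⟨M.map W.subtype, map_subtype_le _, ?_⟩
    have e := relIndex_map_map_of_injective M ⊤ W.subtype_injective
    rw [← MonoidHom.range_eq_map, range_subtype, relIndex_top_right] at e
    rw [e]
    have := index_mul_card M
    rw [hM, hd, show 2 ^ d = 2 * 2 ^ (d - 1) by rw [← pow_succ']; congr 1; omega] at this
    exact Nat.eq_of_mul_eq_mul_right (pow_pos two_pos _) this
  have hMcard : Nat.card M ≤ 2 := by
    have := relIndex_mul_relIndex ⊥ M W bot_le hMW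
    rw [relIndex_bot_left, relIndex_bot_left, hM2] at this
    omega
  -- the commutator pairing modulo `M` has a radical
  let β : X → X → Prop := fun a b => a * b * a⁻¹ * b⁻¹ ∈ M
  have hsymm : ∀ {a b : X}, β a b → β b a := fun {a b} h => by
    show b * a * b⁻¹ * a⁻¹ ∈ M
    rw [Q.comm_symm a b]; exact h
  have hadd : ∀ a b d : X, ¬ β a b → ¬ β a d → β a (b * d) := fun a b d hb hd => by
    show a * (b * d) * a⁻¹ * (b * d)⁻¹ ∈ M
    rw [Q.comm_mul]
    have := mul_mem_iff_of_index_two (H := M.subgroupOf W) hM2 (a := ⟨_, Q.cm a b⟩) (b := ⟨_, Q.cm a d⟩)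
    simp only [mem_subgroupOf, coe_mul] at this
    exact this.2 (iff_of_false hb hd)
  have hmem : ∀ a b d : X, β a b → β a d → β a (b * d) := fun a b d hb hd => by
    show a * (b * d) * a⁻¹ * (b * d)⁻¹ ∈ M
    rw [Q.comm_mul]; exact mul_mem hb hd
  have hself : ∀ a : X, β a a := fun a => by
    show a * a * a⁻¹ * a⁻¹ ∈ M
    rw [show a * a * a⁻¹ * a⁻¹ = 1 by group]; exact one_mem M
  obtain ⟨a, haW, hax, hay, haz⟩ : ∃ a, a ∉ W ∧ β a x ∧ β a y ∧ β a z := by
    have nx : x ∉ W := hx
    have ny : y ∉ W := fun h => hy (hWN1 h)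
    have nz : z ∉ W := fun h => hz (hWN2 h)
    have nxy : x * y ∉ W := fun h => hy (by simpa using mul_mem (inv_mem hxN1) (hWN1 h))
    have nxz : x * z ∉ W := fun h => hz (by simpa using mul_mem (inv_mem hxN2) (hWN2 h))
    have nyz : y * z ∉ W := fun h => hz (by simpa using mul_mem (inv_mem hyN2) (hWN2 h))
    have nxyz : x * y * z ∉ W := fun h => hz (by
      simpa [mul_assoc] using mul_mem (inv_mem (mul_mem hxN2 hyN2)) (hWN2 h))
    have p : ∀ a b d : X, β d a → β d b → β (a * b) d := fun a b d h1 h2 => hsymm (hmem d a b h1 h2)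
    have q : ∀ a b d : X, ¬ β d a → ¬ β d b → β (a * b) d := fun a b d h1 h2 => hsymm (hadd d a b h1 h2)
    by_cases hg : β x y <;> by_cases hb : β x z <;> by_cases ha : β y z
    · exact ⟨x, nx, hself x, hg, hb⟩
    · exact ⟨x, nx, hself x, hg, hb⟩
    · exact ⟨y, ny, hsymm hg, hself y, ha⟩
    · exact ⟨x * y, nxy, p _ _ _ (hself x) hg, p _ _ _ (hsymm hg) (hself y),
        q _ _ _ (fun h => hb (hsymm h)) (fun h => ha (hsymm h))⟩
    · exact ⟨z, nz, hsymm hb, hsymm ha, hself z⟩
    · exact ⟨x * z, nxz, p _ _ _ (hself x) hb, q _ _ _ (fun h => hg (hsymm h)) ha,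
        p _ _ _ (hsymm hb) (hself z)⟩
    · exact ⟨y * z, nyz, q _ _ _ hg hb, p _ _ _ (hself y) ha, p _ _ _ (hsymm ha) (hself z)⟩
    · refine ⟨x * y * z, nxyz, hsymm ?_, hsymm ?_, hsymm ?_⟩
      · rw [mul_assoc]; exact hmem _ _ _ (hself x) (hadd _ _ _ hg hb)
      · refine hadd _ _ _ (fun h => hg (hsymm ?_)) ha
        show y * x * y⁻¹ * x⁻¹ ∈ M
        rw [show y * x * y⁻¹ * x⁻¹ = y * (x * y) * y⁻¹ * (x * y)⁻¹ by group]
        exact h
      · exact hmem _ _ _ (hadd _ _ _ (fun h => hb (hsymm h)) (fun h => ha (hsymm h))) (hself z)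
  have hall : ∀ b : X, a * b * a⁻¹ * b⁻¹ ∈ M := by
    refine Q.brk_all htop (sup_le (sup_le (sup_le (fun w hw => ?_) (zpowers_le.2 hax)) (zpowers_le.2 hay))
      (zpowers_le.2 haz))
    show a * w * a⁻¹ * w⁻¹ ∈ M
    rw [Q.comm_w a hw]
    exact one_mem M
  -- `big` elements
  let big : X → Prop := fun x => (C x).index ≤ 2
  have hbig : big a := by
    have hker : (Q.brkHom a).ker = C a := by
      ext b
      rw [MonoidHom.mem_ker, memC, Q.brkHom_apply, mul_inv_eq_one, mul_inv_eq_iff_eq_mul]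
    show (C a).index ≤ 2
    rw [← hker, index_ker]
    refine le_trans (card_le_of_le ?_) hMcard
    rintro _ ⟨b, rfl⟩
    exact hall b
  have hno : ∀ p, p ∉ W → big p → ∀ q, big q → q ∈ C p := by
    intro p hp hbp q hbq
    by_contra hqp
    have hCne : (C p).index ≠ 1 := fun e => hqp (by rw [index_eq_one.1 e]; exact mem_top _)
    have hCi : (C p).index = 2 := by
      have h1 : (C p).index ≤ 2 := hbp
      have := (C p).index_ne_zero_of_finite
      omega
    have hrC : W.relIndex (C p) = 4 := by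
      have := relIndex_mul_index (hWC p)
      rw [h8, hCi] at this; omega
    obtain ⟨r, ⟨hrp, hrq⟩, hrW⟩ : ∃ r ∈ C p ⊓ C q, r ∉ W := by
      by_contra h
      push Not at h
      have h1 : (C q).relIndex (C p) ≤ 2 := by
        have h2 : (C q).relIndex (C p) ≤ (C q).relIndex ⊤ := by
          exact relIndex_le_of_le_right le_top index_ne_zero_of_finite
        rw [relIndex_top_right] at h2
        exact h2.trans hbq
      have h3 : W.relIndex (C p) ≤ (C p ⊓ C q).relIndex (C p) :=
        Nat.le_of_dvd (Nat.pos_of_ne_zero index_ne_zero_of_finite) (relIndex_dvd_of_le_left _ h)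
      rw [inf_relIndex_left] at h3
      omega
    set P1 := W ⊔ zpowers p
    haveI := Q.hsup (le_sup_left : W ≤ P1)
    have hrP1 : r ∉ P1 := fun hr => by
      have := mul_mem_iff_of_index_two (H := W.subgroupOf P1) (relIndex_adjoin (Q.sq p) hp) (a := ⟨r, hr⟩)
        (b := ⟨p, mem_sup_right (mem_zpowers p)⟩)
      simp only [mem_subgroupOf, coe_mul] at this
      have hrpW : r * p ∈ W := this.2 (iff_of_false hrW hp)
      refine hqp (memC.2 ?_)
      have h1 : Commute q (r⁻¹ * (r * p)) :=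
        (show Commute q r from memC.1 hrq).inv_right.mul_right (Q.cen hrpW q)
      rw [inv_mul_cancel_left] at h1
      exact h1.eq.symm
    have hP : P1 ⊔ zpowers r = C p := by
      refine eq_of_le_of_card_ge (sup_le (sup_le (hWC p) (zpowers_le.2 (memC.2 rfl))) (zpowers_le.2 hrp)) ?_
      have e1 := relIndex_mul_relIndex W P1 (P1 ⊔ zpowers r) le_sup_left le_sup_left
      rw [relIndex_adjoin (Q.sq p) hp, relIndex_adjoin ((le_sup_left : W ≤ P1) (Q.sq r)) hrP1] at e1
      have e2 := relIndex_mul_relIndex ⊥ W (P1 ⊔ zpowers r) bot_le ((le_sup_left : W ≤ P1).trans le_sup_left)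
      have e3 := relIndex_mul_relIndex ⊥ W (C p) bot_le (hWC p)
      rw [relIndex_bot_left, relIndex_bot_left] at e2 e3
      rw [← e2, ← e3, ← e1, hrC]
    refine hrW (hcenter ▸ mem_center_iff.2 fun g => ?_)
    have htop' : C p ⊔ zpowers q = ⊤ := by
      refine index_eq_one.1 ?_
      have h2 := relIndex_mul_index (le_sup_left : C p ≤ C p ⊔ zpowers q)
      rw [hCi] at h2
      rcases (Nat.dvd_prime Nat.prime_two).1 (Dvd.intro _ h2) with e | e
      · exact absurd (relIndex_eq_one.1 e (mem_sup_right (mem_zpowers q))) hqp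
      · rw [e] at h2; omega
    have hle : C p ⊔ zpowers q ≤ C r := by
      rw [← hP]
      exact sup_le (sup_le (sup_le (hWC r) (zpowers_le.2 (memC.2 (memC.1 hrp).symm))) (zpowers_le.2 (memC.2 rfl)))
        (zpowers_le.2 (memC.2 (memC.1 hrq).symm))
    rw [htop'] at hle
    exact (memC.1 (hle (mem_top g))).symm
  -- big elements generate an invariant subgroup inside one centralizer
  have hbφ : ∀ q, big q → big (φ q) := by
    intro q hq
    show (C (φ q)).index ≤ 2
    have e1 : (C q).map φ.toMonoidHom = C (φ q) := by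
      ext b
      simp only [mem_map_equiv, memC]
      rw [← φ.injective.eq_iff, map_mul, map_mul, φ.apply_symm_apply]
    rw [← e1]
    exact (le_of_eq (index_map_equiv (C q) φ)).trans hq
  let N : Subgroup X := W ⊔ closure {q | big q}
  have hN : ∀ q ∈ N, φ q ∈ N := by
    have : N ≤ N.comap φ.toMonoidHom := sup_le (fun w hw => mem_sup_left (Q.inv w hw))
      ((closure_le _).2 fun q hq => mem_sup_right (subset_closure (hbφ q hq)))
    exact this
  rcases hprop N le_sup_left hN with e | e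
  · exact haW (e ▸ mem_sup_right (subset_closure hbig) : a ∈ W)
  · have hle : N ≤ C a := sup_le (hWC a) ((closure_le _).2 fun q hq => hno a haW hbig q hq)
    rw [e] at hle
    exact haW (hcenter ▸ mem_center_iff.2 fun g => (memC.1 (hle (mem_top g))).symm)

end Quot

end CfsgLib.NormalRankTwo
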