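import Cfsg.Agent.Lib.NormalRankTwo.Core
import Cfsg.Agent.Lib.Coprime.Action
import Cfsg.Agent.Lib.Invol.ZStar

/-!
# A Sylow 2-subgroup with an automorphism of odd order

`twisted T n` is `[T, n]` and `fixPart T n` the part of `T` fixed by `n`.
-/

set_option autoImplicit false
set_option linter.unusedSectionVars false
set_option linter.style.haveILetI false

open Subgroup
open scoped commutatorElement

namespace CfsgLib.NormalRankTwo

open CfsgLib.CFun.NoEight (Inv GenByTwist)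

universe u

variable {G : Type u} [Group G] [Finite G]

/-- `[T, n]`. -/
def twisted (T : Sylow 2 G) (n : G) : Subgroup G := ⁅(T : Subgroup G), zpowers n⁆

/-- The elements of `T` commuting with `n`. -/
def fixPart (T : Sylow 2 G) (n : G) : Subgroup G := (T : Subgroup G) ⊓ centralizer (zpowers n : Set G)

/-- A Sylow 2-subgroup of small normal rank and an element of odd order acting on it. -/
structure Frame (T : Sylow 2 G) (n : G) : Prop where
  mem : n ∈ normalizer ((T : Subgroup G) : Set G)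
  odd : Odd (orderOf n)
  moves : ∃ t ∈ (T : Subgroup G), n * t ≠ t * n
  small : ∀ E : Subgroup G, E ≤ (T : Subgroup G) → (∀ t ∈ (T : Subgroup G), ∀ e ∈ E, t * e * t⁻¹ ∈ E) →
    (∀ e ∈ E, e * e = 1) → Nat.card E ≤ 4
  sect : ∀ R M : Subgroup G, R ≤ (T : Subgroup G) → (∀ a ∈ R, a * a ∈ M) → M.relIndex R ≤ 16

/-- Commuting with the square of an element of odd order. -/
theorem commute_of_sq {n x : G} (hn : Odd (orderOf n)) (h : Commute (n * n) x) : Commute n x := by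
  obtain ⟨m, hm⟩ := hn
  have e : n = (n * n) ^ (m + 1) := by
    rw [← pow_two, ← pow_mul, show 2 * (m + 1) = orderOf n + 1 by omega, pow_succ, pow_orderOf_eq_one, one_mul]
  rw [e]
  exact h.pow_left _

theorem fix_of_fix_sq {n x : G} (hn : Odd (orderOf n)) (h : n * (n * x * n⁻¹) * n⁻¹ = x) : n * x * n⁻¹ = x := by
  have h1 : Commute (n * n) x := by
    show n * n * x = x * (n * n)
    calc n * n * x = n * (n * x * n⁻¹) * n⁻¹ * (n * n) := by group
      _ = x * (n * n) := by rw [h]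
  rw [(commute_of_sq hn h1).eq, mul_inv_cancel_right]

namespace Frame

variable {T : Sylow 2 G} {n : G} (F : Frame T n)
include F

theorem le_normalizer : zpowers n ≤ normalizer ((T : Subgroup G) : Set G) := zpowers_le.2 F.mem

theorem coprime : (Nat.card (zpowers n)).Coprime (Nat.card (T : Subgroup G)) := by
  haveI : Fact (Nat.Prime 2) := ⟨Nat.prime_two⟩
  obtain ⟨k, hk⟩ := IsPGroup.iff_card.1 T.2
  rw [hk, Nat.card_zpowers]
  exact (Nat.coprime_two_right.2 F.odd).pow_right k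

theorem solvable : Group.IsSolvable (zpowers n) ∨ Group.IsSolvable (T : Subgroup G) :=
  Or.inl (Coprime.isSolvable_of_isMulCommutative inferInstance)

theorem twisted_le : twisted T n ≤ (T : Subgroup G) := by
  refine le_sup_left.trans (le_of_eq (Coprime.commutator_sup_centralizer F.le_normalizer F.coprime F.solvable))

theorem decomp {t : G} (ht : t ∈ (T : Subgroup G)) : ∃ x ∈ twisted T n, ∃ c ∈ fixPart T n, x * c = t :=
  Coprime.mem_sup_exists (inf_le_left.trans (normalizer_commutator_ge_left (T : Subgroup G) (zpowers n)))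
    (by rw [Coprime.commutator_sup_centralizer F.le_normalizer F.coprime F.solvable]; exact ht)

theorem twisted_conj {t : G} (ht : t ∈ (T : Subgroup G)) {x : G} (hx : x ∈ twisted T n) :
    t * x * t⁻¹ ∈ twisted T n :=
  (mem_normalizer_iff.1 (normalizer_commutator_ge_left (T : Subgroup G) (zpowers n) ht) x).1 hx

theorem mem_normalizer_twisted : n ∈ normalizer ((twisted T n : Subgroup G) : Set G) := by
  rw [twisted, commutator_comm]
  exact normalizer_commutator_ge_left (zpowers n) (T : Subgroup G) (mem_zpowers n)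

theorem twisted_n {x : G} (hx : x ∈ twisted T n) : n * x * n⁻¹ ∈ twisted T n :=
  (mem_normalizer_iff.1 F.mem_normalizer_twisted x).1 hx

theorem T_n {t : G} (ht : t ∈ (T : Subgroup G)) : n * t * n⁻¹ ∈ (T : Subgroup G) :=
  (mem_normalizer_iff.1 F.mem t).1 ht

theorem fix_comm {c : G} (hc : c ∈ fixPart T n) : n * c = c * n :=
  mem_centralizer_iff.1 hc.2 n (mem_zpowers n)

theorem fix_conj {c : G} (hc : c ∈ fixPart T n) (x : G) :
    c * (n * x * n⁻¹) * c⁻¹ = n * (c * x * c⁻¹) * n⁻¹ := by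
  have h := F.fix_comm hc
  calc c * (n * x * n⁻¹) * c⁻¹ = (c * n) * x * (c * n)⁻¹ := by group
    _ = (n * c) * x * (n * c)⁻¹ := by rw [h]
    _ = _ := by group

theorem fix_mem {c : G} (hc : c ∈ fixPart T n) : c ∈ (T : Subgroup G) := hc.1

theorem mem_fix {c : G} (hc : c ∈ (T : Subgroup G)) (h : n * c * n⁻¹ = c) : c ∈ fixPart T n := by
  refine ⟨hc, ?_⟩
  rw [zpowers_eq_closure, centralizer_closure]
  exact mem_centralizer_singleton_iff.2 (mul_inv_eq_iff_eq_mul.1 h).symm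

theorem twisted_ne_bot : twisted T n ≠ ⊥ := by
  intro h
  obtain ⟨t, ht, hne⟩ := F.moves
  exact hne (mem_centralizer_iff.1 (commutator_eq_bot_iff_le_centralizer.1 h ht) n (mem_zpowers n))

/-- Every statement about the action on `[T, n]` is read in that group. -/
theorem setting :
    Setting (zpowers ((twisted T n).normalizerMonoidHom ⟨n, F.mem_normalizer_twisted⟩))
      ((((T : Subgroup G) ⊔ zpowers n).subgroupOf (normalizer ((twisted T n : Subgroup G) : Set G))).map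
        (twisted T n).normalizerMonoidHom)
      ((twisted T n).normalizerMonoidHom ⟨n, F.mem_normalizer_twisted⟩) := by
  set X := twisted T n with hX
  set nn : normalizer (X : Set G) := ⟨n, F.mem_normalizer_twisted⟩
  set f := X.normalizerMonoidHom
  refine { eq := rfl, two := T.2.to_le F.twisted_le, odd := ?_, twist := ?_, le := ?_, inner := ?_,
           small := ?_, sect := ?_ }
  · rw [Nat.card_zpowers]
    refine F.odd.of_dvd_nat ((orderOf_map_dvd f nn).trans ?_)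
    rw [← Subgroup.orderOf_coe nn]
  · show closure {g : X | ∃ ψ ∈ zpowers (f nn), ∃ x : X, g = x⁻¹ * ψ x} = ⊤
    set K := closure {g : X | ∃ ψ ∈ zpowers (f nn), ∃ x : X, g = x⁻¹ * ψ x}
    have hle : ⁅X, zpowers n⁆ ≤ K.map X.subtype := by
      rw [commutator_le]
      intro x hx a ha
      obtain ⟨i, rfl⟩ := mem_zpowers_iff.1 ha
      refine ⟨(⟨x, hx⟩ : X)⁻¹⁻¹ * (f (nn ^ i)) (⟨x, hx⟩ : X)⁻¹,
        subset_closure ⟨f (nn ^ i), ⟨i, (map_zpow f nn i).symm⟩, (⟨x, hx⟩ : X)⁻¹, rfl⟩, ?_⟩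
      rw [commutatorElement_def]
      show x⁻¹⁻¹ * ((↑(nn ^ i) : G) * x⁻¹ * (↑(nn ^ i) : G)⁻¹) = _
      rw [SubgroupClass.coe_zpow]
      show x⁻¹⁻¹ * (n ^ i * x⁻¹ * (n ^ i)⁻¹) = _
      group
    rw [show ⁅X, zpowers n⁆ = X from Coprime.commutator_commutator_eq F.le_normalizer F.coprime F.solvable] at hle
    refine eq_top_iff.2 fun x _ => ?_
    obtain ⟨y, hy, e⟩ := hle x.2
    rwa [← Subtype.ext (a1 := y) (a2 := x) e]
  · exact zpowers_le.2 ⟨nn, mem_sup_right (mem_zpowers n), rfl⟩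
  · intro x
    refine ⟨⟨x, Subgroup.le_normalizer x.2⟩, mem_sup_left (F.twisted_le x.2), ?_⟩
    ext y
    rfl
  · intro E hE hE2
    rw [← card_map_of_injective X.subtype_injective]
    refine F.small _ ((map_subtype_le E).trans F.twisted_le) ?_ ?_
    · rintro t ht _ ⟨e, he, rfl⟩
      exact ⟨_, hE _ ⟨⟨t, normalizer_commutator_ge_left (T : Subgroup G) (zpowers n) ht⟩, mem_sup_left ht, rfl⟩ e he,
        rfl⟩
    · rintro _ ⟨e, he, rfl⟩
      show (e : G) * e = 1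
      rw [← coe_mul, hE2 e he, coe_one]
  · intro R M hsq
    rw [← relIndex_map_map_of_injective M R X.subtype_injective]
    refine F.sect _ _ ((map_subtype_le R).trans F.twisted_le) ?_
    rintro _ ⟨a, ha, rfl⟩
    exact ⟨a * a, hsq a ha, rfl⟩

/-- No element of `[T, n]` is fixed modulo an invariant subgroup with commutative quotient. -/
theorem mem_of_fix_mod {N : Subgroup G} (hN : ∀ x ∈ N, n * x * n⁻¹ ∈ N)
    (hab : ∀ x ∈ twisted T n, ∀ y ∈ twisted T n, x * y * x⁻¹ * y⁻¹ ∈ N) {x : G} (hx : x ∈ twisted T n)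
    (h : n * x * n⁻¹ * x⁻¹ ∈ N) : x ∈ N := by
  set X := twisted T n
  haveI : (N.subgroupOf X).Normal := ⟨fun a ha g => by
    rw [mem_subgroupOf] at ha ⊢
    rw [show ((g * a * g⁻¹ : X) : G) = ((g : G) * a * (g : G)⁻¹ * (a : G)⁻¹) * a by simp]
    exact mul_mem (hab g g.2 a a.2) ha⟩
  have := F.setting.toCyc.eq_of_mod (N := N.subgroupOf X) (fun a ha => hN a ha)
    (fun a b => hab a a.2 b b.2) (u := ⟨x, hx⟩) h
  exact this

theorem mem_of_image {N : Subgroup G} (hN : ∀ x ∈ N, n * x * n⁻¹ ∈ N) {x : G} (hx : x ∈ twisted T n)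
    (h : n * x * n⁻¹ ∈ N) : x ∈ N := by
  by_contra hxN
  exact F.setting.toCyc.not_mem_image (N := N.subgroupOf (twisted T n)) (fun a ha => hN a ha)
    (x := ⟨x, hx⟩) hxN h

theorem relIndex_ne_two {N M : Subgroup G} (hMX : M ≤ twisted T n) (hN : ∀ x ∈ N, n * x * n⁻¹ ∈ N)
    (hM : ∀ x ∈ M, n * x * n⁻¹ ∈ M)
    (hab : ∀ x ∈ twisted T n, ∀ y ∈ twisted T n, x * y * x⁻¹ * y⁻¹ ∈ N) : N.relIndex M ≠ 2 := by
  intro h2
  obtain ⟨u, hu, huN⟩ : ∃ u ∈ M, u ∉ N := by
    by_contra h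
    push Not at h
    rw [relIndex_eq_one.2 h] at h2
    omega
  refine huN (F.mem_of_fix_mod hN hab (hMX hu) ?_)
  have := mul_mem_iff_of_index_two (H := N.subgroupOf M) h2 (a := ⟨n * u * n⁻¹, hM u hu⟩)
    (b := (⟨u, hu⟩ : M)⁻¹)
  simp only [mem_subgroupOf, inv_mem_iff, coe_mul, coe_inv] at this
  exact this.2 (iff_of_false (fun h => huN (F.mem_of_image hN (hMX hu) h)) huN)

/-- An element of `[T, n]` central in `T` modulo a proper normal subgroup. -/
theorem exists_central_mod {N : Subgroup G} (hN : ∀ t ∈ (T : Subgroup G), ∀ x ∈ N, t * x * t⁻¹ ∈ N)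
    {M : Subgroup G} (hMT : M ≤ (T : Subgroup G)) (hM : ∀ t ∈ (T : Subgroup G), ∀ x ∈ M, t * x * t⁻¹ ∈ M)
    (hne : ¬ M ≤ N) : ∃ x ∈ M, x ∉ N ∧ ∀ t ∈ (T : Subgroup G), t * x * t⁻¹ * x⁻¹ ∈ N := by
  haveI : (N.subgroupOf (T : Subgroup G)).Normal := ⟨fun a ha g => hN g g.2 a ha⟩
  haveI hMn : (M.subgroupOf (T : Subgroup G)).Normal := ⟨fun a ha g => hM g g.2 a ha⟩
  set q := QuotientGroup.mk' (N.subgroupOf (T : Subgroup G))
  haveI : ((M.subgroupOf (T : Subgroup G)).map q).Normal := hMn.map _ (QuotientGroup.mk'_surjective _)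
  have hne' : (M.subgroupOf (T : Subgroup G)).map q ≠ ⊥ := by
    intro h
    refine hne fun x hx => ?_
    have h1 : q ⟨x, hMT hx⟩ ∈ (M.subgroupOf (T : Subgroup G)).map q := mem_map_of_mem q hx
    rw [h, mem_bot] at h1
    have h2 : (⟨x, hMT hx⟩ : ↥(T : Subgroup G)) ∈ N.subgroupOf (T : Subgroup G) :=
      (QuotientGroup.eq_one_iff _).1 h1
    exact h2
  haveI : Fact (Nat.Prime 2) := ⟨Nat.prime_two⟩
  haveI := (T.2.to_quotient (N.subgroupOf (T : Subgroup G))).isNilpotent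
  haveI : Nontrivial ↥((M.subgroupOf (T : Subgroup G)).map q ⊓ center _) :=
    (nontrivial_iff_ne_bot _).2 (CfsgLib.Coprime.nilpotent_inf_center_ne_bot _ hne')
  obtain ⟨w, hw⟩ := exists_ne (1 : ↥((M.subgroupOf (T : Subgroup G)).map q ⊓ center _))
  obtain ⟨x, hxM, hxw⟩ := w.2.1
  refine ⟨x, hxM, fun hxN => hw (Subtype.ext (hxw.symm.trans ((QuotientGroup.eq_one_iff x).2 hxN))),
    fun t ht => ?_⟩
  suffices h : ⟨t, ht⟩ * x * (⟨t, ht⟩ : ↥(T : Subgroup G))⁻¹ * x⁻¹ ∈ N.subgroupOf (T : Subgroup G) from h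
  refine (QuotientGroup.eq_one_iff _).1 ?_
  have hc : q ⟨t, ht⟩ * q x = q x * q ⟨t, ht⟩ := by rw [hxw]; exact mem_center_iff.1 w.2.2 _
  show q (⟨t, ht⟩ * x * (⟨t, ht⟩ : ↥(T : Subgroup G))⁻¹ * x⁻¹) = 1
  rw [map_mul, map_mul, map_mul, map_inv, map_inv, hc, mul_inv_cancel_right, mul_inv_cancel]

end Frame

/-- The elements of `X` whose commutators with `C` lie in `N`. -/
def fixMod (X N : Subgroup G) (C : Set G) (hC : ∀ c ∈ C, ∀ x ∈ X, c * x * c⁻¹ ∈ X)
    (hX : ∀ x ∈ X, ∀ y ∈ N, x * y * x⁻¹ ∈ N) : Subgroup G where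
  carrier := {x | x ∈ X ∧ ∀ c ∈ C, c * x * c⁻¹ * x⁻¹ ∈ N}
  one_mem' := ⟨X.one_mem, fun c _ => by simp⟩
  mul_mem' := fun {a b} ha hb => ⟨X.mul_mem ha.1 hb.1, fun c hc => by
    rw [show c * (a * b) * c⁻¹ * (a * b)⁻¹ = (c * a * c⁻¹ * a⁻¹) * (a * (c * b * c⁻¹ * b⁻¹) * a⁻¹) by group]
    exact N.mul_mem (ha.2 c hc) (hX a ha.1 _ (hb.2 c hc))⟩
  inv_mem' := fun {a} ha => ⟨X.inv_mem ha.1, fun c hc => by
    rw [show c * a⁻¹ * c⁻¹ * a⁻¹⁻¹ = a⁻¹ * (c * a * c⁻¹ * a⁻¹)⁻¹ * a⁻¹⁻¹ by group]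
    exact hX _ (X.inv_mem ha.1) _ (N.inv_mem (ha.2 c hc))⟩

namespace Frame

variable {T : Sylow 2 G} {n : G} (F : Frame T n)
include F

/-- The fixed part acts trivially on an invariant quotient of order four. -/
theorem trivial_mod {N : Subgroup G} (hNX : N ≤ twisted T n) (hNn : ∀ x ∈ N, n * x * n⁻¹ ∈ N)
    (hNT : ∀ t ∈ (T : Subgroup G), ∀ x ∈ N, t * x * t⁻¹ ∈ N)
    (hab : ∀ x ∈ twisted T n, ∀ y ∈ twisted T n, x * y * x⁻¹ * y⁻¹ ∈ N)
    (h4 : N.relIndex (twisted T n) = 4) :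
    ∀ c ∈ fixPart T n, ∀ x ∈ twisted T n, c * x * c⁻¹ * x⁻¹ ∈ N := by
  let L := fixMod (twisted T n) N (fixPart T n : Set G)
    (fun c hc x hx => F.twisted_conj hc.1 hx) (fun x hx y hy => hNT x (F.twisted_le hx) y hy)
  have hNL : N ≤ L := fun y hy => ⟨hNX hy, fun c hc => N.mul_mem (hNT c hc.1 y hy) (N.inv_mem hy)⟩
  have hLX : L ≤ twisted T n := fun y hy => hy.1
  have hLn : ∀ x ∈ L, n * x * n⁻¹ ∈ L := fun x hx => ⟨F.twisted_n hx.1, fun c hc => by
    rw [F.fix_conj hc, show n * (c * x * c⁻¹) * n⁻¹ * (n * x * n⁻¹)⁻¹ = n * (c * x * c⁻¹ * x⁻¹) * n⁻¹ by group]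
    exact hNn _ (hx.2 c hc)⟩
  obtain ⟨x, hx, hxN, hxc⟩ := F.exists_central_mod hNT F.twisted_le
    (fun t ht y hy => F.twisted_conj ht hy) (fun h => by rw [relIndex_eq_one.2 h] at h4; omega)
  have hxL : x ∈ L := ⟨hx, fun c hc => hxc c hc.1⟩
  have hmul := relIndex_mul_relIndex N L _ hNL hLX
  rw [h4] at hmul
  have hne1 : N.relIndex L ≠ 1 := fun e => hxN (relIndex_eq_one.1 e hxL)
  have hne2 := F.relIndex_ne_two hLX hNn hLn hab
  have hd : N.relIndex L ∣ 2 ^ 2 := Dvd.intro _ hmul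
  obtain ⟨j, hj, hjL⟩ := (Nat.dvd_prime_pow Nat.prime_two).1 hd
  have h1 : L.relIndex (twisted T n) = 1 := by
    rcases (show j = 0 ∨ j = 1 ∨ j = 2 by omega) with rfl | rfl | rfl
    · exact absurd (by simpa using hjL) hne1
    · exact absurd (by simpa using hjL) hne2
    · rw [hjL] at hmul; omega
  exact fun c hc y hy => (relIndex_eq_one.1 h1 hy).2 c hc

end Frame

/-- A small central layer of `[T, n]` containing all squares. -/
structure Lay (T : Sylow 2 G) (n : G) (W : Subgroup G) : Prop where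
  le : W ≤ twisted T n
  invT : ∀ t ∈ (T : Subgroup G), ∀ w ∈ W, t * w * t⁻¹ ∈ W
  invn : ∀ w ∈ W, n * w * n⁻¹ ∈ W
  central : ∀ w ∈ W, ∀ x ∈ twisted T n, x * w = w * x
  exp2 : ∀ w ∈ W, w * w = 1
  card4 : Nat.card W ≤ 4
  sq : ∀ x ∈ twisted T n, x * x ∈ W

theorem Lay.cm {T : Sylow 2 G} {n : G} {W : Subgroup G} (S : Lay T n W) :
    ∀ x ∈ twisted T n, ∀ y ∈ twisted T n, x * y * x⁻¹ * y⁻¹ ∈ W := fun x hx y hy => by
  rw [show x * y * x⁻¹ * y⁻¹ = x * x * (x⁻¹ * y * (x⁻¹ * y)) * (y⁻¹ * y⁻¹) by group]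
  exact mul_mem (mul_mem (S.sq x hx) (S.sq _ (mul_mem (inv_mem hx) hy))) (S.sq _ (inv_mem hy))

/-- The three shapes of `[T, n]`. -/
theorem Frame.cases {T : Sylow 2 G} {n : G} (F : Frame T n) :
    (∀ x ∈ twisted T n, ∀ y ∈ twisted T n, x * y = y * x) ∨
      (∃ W, Lay T n W ∧ Nat.card W = 2 ∧ W.relIndex (twisted T n) = 4 ∧
        ∀ x ∈ twisted T n, x * x = 1 → x ∈ W) ∨
      ∃ W, Lay T n W ∧ W.relIndex (twisted T n) = 16 := by
  rcases shape F.setting with hab | ⟨W, hWB, Q, hW4, hW⟩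
  · exact Or.inl fun x hx y hy => congrArg Subtype.val (hab ⟨x, hx⟩ ⟨y, hy⟩)
  have S : Lay T n (W.map (twisted T n).subtype) := by
    refine ⟨map_subtype_le W, ?_, ?_, ?_, ?_, by rwa [card_map_of_injective (twisted T n).subtype_injective], ?_⟩
    · rintro t ht _ ⟨w, hw, rfl⟩
      exact ⟨_, hWB _ ⟨⟨t, normalizer_commutator_ge_left (T : Subgroup G) (zpowers n) ht⟩, mem_sup_left ht, rfl⟩ w hw,
        rfl⟩
    · rintro _ ⟨w, hw, rfl⟩
      exact ⟨_, Q.inv w hw, rfl⟩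
    · rintro _ ⟨w, hw, rfl⟩ x hx
      exact congrArg Subtype.val (Q.cen hw ⟨x, hx⟩)
    · rintro _ ⟨w, hw, rfl⟩
      exact congrArg Subtype.val (Q.exp2 w hw)
    · exact fun x hx => ⟨_, Q.sq ⟨x, hx⟩, rfl⟩
  have hidx : (W.map (twisted T n).subtype).relIndex (twisted T n) = W.index := by
    rw [← relIndex_top_right W, ← relIndex_map_map_of_injective W ⊤ (twisted T n).subtype_injective, ← MonoidHom.range_eq_map,
      range_subtype]
  rcases hW with ⟨h2, h4, hinv⟩ | h16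
  · refine Or.inr (Or.inl ⟨_, S, by rwa [card_map_of_injective (twisted T n).subtype_injective], hidx.trans h4, ?_⟩)
    exact fun x hx h => ⟨⟨x, hx⟩, hinv ⟨x, hx⟩ (Subtype.ext h), rfl⟩
  · exact Or.inr (Or.inr ⟨_, S, hidx.trans h16⟩)

section Fusion

/-- The centralizer in `T` of a conjugate of a central element can be moved into `T`. -/
theorem exists_conj_into (T : Sylow 2 G) {z u : G} (hz : ∀ t ∈ (T : Subgroup G), t * z = z * t)
    {g₀ : G} (hg : g₀ * u * g₀⁻¹ = z) :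
    ∃ g : G, g * u * g⁻¹ = z ∧ ∀ y ∈ (T : Subgroup G), y * u = u * y → g * y * g⁻¹ ∈ (T : Subgroup G) := by
  haveI : Fact (Nat.Prime 2) := ⟨Nat.prime_two⟩
  have hTH : (T : Subgroup G) ≤ centralizer ({z} : Set G) := fun t ht =>
    mem_centralizer_singleton_iff.2 (hz t ht)
  set H := centralizer ({z} : Set G) with hH
  set P := ((T : Subgroup G) ⊓ centralizer ({u} : Set G)).map (MulAut.conj g₀).toMonoidHom with hP
  have hPH : P ≤ H := by
    rintro _ ⟨y, hy, rfl⟩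
    refine mem_centralizer_singleton_iff.2 ?_
    show g₀ * y * g₀⁻¹ * z = z * (g₀ * y * g₀⁻¹)
    rw [← hg]
    have h := mem_centralizer_singleton_iff.1 hy.2
    calc g₀ * y * g₀⁻¹ * (g₀ * u * g₀⁻¹) = g₀ * (y * u) * g₀⁻¹ := by group
      _ = g₀ * (u * y) * g₀⁻¹ := by rw [h]
      _ = _ := by group
  have hp : IsPGroup 2 (P.subgroupOf H) :=
    ((T.2.to_le inf_le_left).map _).comap_subtype
  obtain ⟨S, hS⟩ := hp.exists_le_sylow
  obtain ⟨h, hh⟩ := MulAction.exists_smul_eq H S (T.subtype hTH)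
  refine ⟨(h : G) * g₀, ?_, fun y hy hyu => ?_⟩
  · have hc := mem_centralizer_singleton_iff.1 h.2
    calc (h : G) * g₀ * u * ((h : G) * g₀)⁻¹ = (h : G) * (g₀ * u * g₀⁻¹) * (h : G)⁻¹ := by group
      _ = z := by rw [hg, hc, mul_inv_cancel_right]
  · have hyP : g₀ * y * g₀⁻¹ ∈ P := ⟨y, ⟨hy, mem_centralizer_singleton_iff.2 hyu⟩, rfl⟩
    have h1 : (MulAut.conj h) (⟨_, hPH hyP⟩ : H) ∈ ((h • S : Sylow 2 H) : Subgroup H) := by
      rw [Sylow.coe_subgroup_smul]
      exact smul_mem_pointwise_smul _ _ _ (hS hyP)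
    rw [hh, Sylow.coe_subtype, mem_subgroupOf] at h1
    rw [show (h : G) * g₀ * y * ((h : G) * g₀)⁻¹ = (h : G) * (g₀ * y * g₀⁻¹) * (h : G)⁻¹ by group]
    exact h1

/-- In a simple group no involution of a Sylow 2-subgroup is weakly closed in it. -/
theorem exists_other_conj [IsSimpleGroup G] (hna : ¬ IsMulCommutative G) (T : Sylow 2 G) {z : G}
    (hz : orderOf z = 2) : ∃ g : G, g * z * g⁻¹ ∈ (T : Subgroup G) ∧ g * z * g⁻¹ ≠ z := by
  by_contra hno
  push Not at hno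
  have h := CfsgLib.Invol.zstar_of_weakly_closed T hz fun g hg => hno g hg
  have hn : (Cfsg.pPrimeCore 2 G).Normal := by
    rw [Coprime.pPrimeCore_eq_piCore Nat.prime_two]; infer_instance
  have hO : Cfsg.pPrimeCore 2 G = ⊥ := by
    rcases hn.eq_bot_or_eq_top with e | e
    · exact e
    · exfalso
      have h1 := Coprime.pPrimeCore_coprime (G := G) Nat.prime_two
      rw [e, card_top] at h1
      have h2 : 2 ∣ Nat.card G := hz ▸ orderOf_dvd_natCard z
      exact absurd (Nat.eq_one_of_dvd_coprimes h1 h2 dvd_rfl) (by norm_num)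
  have hc : z ∈ center G := mem_center_iff.2 fun g => by
    have := h g
    rw [hO, mem_bot, mul_inv_eq_one, mul_inv_eq_iff_eq_mul] at this
    exact this.symm
  rcases (inferInstance : (center G).Normal).eq_bot_or_eq_top with e | e
  · rw [e, mem_bot] at hc
    rw [hc, orderOf_one] at hz
    omega
  · exact hna ⟨⟨fun a b => mem_center_iff.1 (e ▸ mem_top b) a⟩⟩

end Fusion

end CfsgLib.NormalRankTwo
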