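import Cfsg.Agent.Lib.CFun.NoEightAut
import Cfsg.Agent.Lib.NormalRankTwo.Elementary

/-!
# The layers of a maximal invariant abelian subgroup

`B` contains the inner automorphisms and `φ`; its invariant subgroups of exponent two have order at
most four and the elementary sections of `X` have order at most sixteen.
-/

set_option autoImplicit false
set_option linter.unusedSectionVars false
set_option linter.style.haveILetI false

open Subgroup

namespace CfsgLib.NormalRankTwo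

open CfsgLib.CFun.NoEight

universe u

variable {X : Type u} [Group X] [Finite X] {A B : Subgroup (MulAut X)} {φ : MulAut X}

/-- The hypotheses on `X`. -/
structure Setting (A B : Subgroup (MulAut X)) (φ : MulAut X) : Prop extends Cyc A φ where
  le : A ≤ B
  inner : ∀ x : X, MulAut.conj x ∈ B
  small : ∀ E : Subgroup X, Inv B E → (∀ e ∈ E, e * e = 1) → Nat.card E ≤ 4
  sect : ∀ R M : Subgroup X, (∀ a ∈ R, a * a ∈ M) → M.relIndex R ≤ 16

theorem Setting.normal (H : Setting A B φ) {N : Subgroup X} (hN : Inv B N) : N.Normal :=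
  ⟨fun n hn g => hN _ (H.inner g) n hn⟩

theorem Setting.inv_left (H : Setting A B φ) {N : Subgroup X} (hN : Inv B N) : Inv A N :=
  fun ψ hψ => hN ψ (H.le hψ)

theorem pow_four_eq (w : X) : w ^ 4 = (w * w) * (w * w) := by
  simp only [pow_succ, pow_zero, one_mul, mul_assoc]

theorem one_lt_relIndex {K L : Subgroup X} (h : ¬ L ≤ K) : 2 ≤ K.relIndex L := by
  have h0 : K.relIndex L ≠ 0 := index_ne_zero_of_finite
  have h1 : K.relIndex L ≠ 1 := fun e => h (relIndex_eq_one.1 e)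
  omega

/-- Involutions of an invariant set commuting modulo `W` and centralizing the elements of order four
of `U` lie in `W`. -/
theorem no_involution (H : Setting A B φ) {U W : Subgroup X} {k : ℕ} (S : Layer A U W φ k)
    (hUB : Inv B U) (hWB : Inv B W) {D : Set X} (hD : ∀ ψ ∈ B, ∀ x ∈ D, ψ x ∈ D)
    (hcm : ∀ t ∈ D, ∀ s ∈ D, t * t = 1 → s * s = 1 → t * s * t⁻¹ * s⁻¹ ∈ W)
    (hct : ∀ t ∈ D, t * t = 1 → ∀ u ∈ U, u ^ 4 = 1 → t * u = u * t) {t₀ : X} (ht₀ : t₀ ∈ D)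
    (ht₀2 : t₀ * t₀ = 1) : t₀ ∈ W := by
  classical
  have F := S.F
  haveI : W.Normal := H.normal hWB
  let Om : Subgroup X :=
    { carrier := {u | u ∈ U ∧ u ^ 4 = 1}
      one_mem' := ⟨U.one_mem, one_pow 4⟩
      mul_mem' := fun {a b} ha hb => ⟨U.mul_mem ha.1 hb.1, by rw [S.pw ha.1 hb.1, ha.2, hb.2, one_mul]⟩
      inv_mem' := fun {a} ha => ⟨U.inv_mem ha.1, by rw [inv_pow, ha.2, inv_one]⟩ }
  have hWOm : W ≤ Om := fun w hw => ⟨S.hWU hw, by
    rw [pow_four_eq, F.hW2 w hw, one_mul]⟩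
  -- `Om` has index four over `W`
  have hOm4 : W.relIndex Om = 4 := by
    let f : Om →* W :=
      { toFun := fun u => ⟨(u : X) * u, S.hom1 _ (U.mul_mem u.2.1 u.2.1) (by
          rw [← pow_four_eq]; exact u.2.2)⟩
        map_one' := Subtype.ext (one_mul 1)
        map_mul' := fun a b => Subtype.ext ((show Commute (b : X) a from S.hUab b b.2.1 a a.2.1).mul_mul_mul_comm a b) }
    have hker : f.ker = W.subgroupOf Om := by
      ext u
      rw [MonoidHom.mem_ker, mem_subgroupOf, Subtype.ext_iff]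
      exact ⟨fun h => S.hom1 _ u.2.1 h, fun h => F.hW2 _ h⟩
    have hsurj : f.range = ⊤ := by
      refine eq_top_iff.2 fun w _ => ?_
      obtain ⟨v, hv, hvv⟩ := S.sqroot 1 (w : X) (S.hWU w.2) (by rw [pow_one, pow_two]; exact F.hW2 _ w.2)
        (by have := S.hk; omega)
      refine ⟨⟨v, hv, ?_⟩, Subtype.ext hvv⟩
      rw [pow_four_eq, hvv, F.hW2 _ w.2]
    rw [relIndex, ← hker, index_ker, hsurj, card_top, F.hW4]
  set I : Set X := {t | t ∈ D ∧ t * t = 1} with hI
  set R := closure ((Om : Set X) ∪ I) with hR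
  have hsqR : ∀ a ∈ R, a * a ∈ W := by
    have hgsq : ∀ a ∈ (Om : Set X) ∪ I, a * a ∈ W := by
      rintro a (ha | ha)
      · exact S.hom1 _ (U.mul_mem ha.1 ha.1) (by rw [← pow_four_eq]; exact ha.2)
      · rw [ha.2]; exact one_mem W
    have hgc : ∀ a ∈ (Om : Set X) ∪ I, ∀ b ∈ (Om : Set X) ∪ I, a * b * a⁻¹ * b⁻¹ ∈ W := by
      have hone : ∀ a b : X, a * b = b * a → a * b * a⁻¹ * b⁻¹ ∈ W := fun a b hab => by
        rw [hab, mul_inv_cancel_right, mul_inv_cancel]; exact one_mem W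
      rintro a (ha | ha) b (hb | hb)
      · exact hone a b (S.hUab a ha.1 b hb.1)
      · exact hone a b (hct b hb.1 hb.2 a ha.1 ha.2).symm
      · exact hone a b (hct a ha.1 ha.2 b hb.1 hb.2)
      · exact hcm a ha.1 b hb.1 ha.2 hb.2
    intro a ha
    set q := QuotientGroup.mk' W
    have hcom : ∀ u ∈ q '' ((Om : Set X) ∪ I), ∀ v ∈ q '' ((Om : Set X) ∪ I), u * v = v * u := by
      rintro _ ⟨u, hu, rfl⟩ _ ⟨v, hv, rfl⟩
      rw [← mul_inv_eq_one, mul_inv_rev, ← mul_assoc, ← map_inv, ← map_inv, ← map_mul, ← map_mul, ← map_mul]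
      exact (QuotientGroup.eq_one_iff _).2 (hgc u hu v hv)
    haveI hcmq := Subgroup.isMulCommutative_closure hcom
    have hall : ∀ u ∈ closure (q '' ((Om : Set X) ∪ I)), u * u = 1 := by
      intro u hu
      induction hu using Subgroup.closure_induction with
      | mem y hy => obtain ⟨v, hv, rfl⟩ := hy; rw [← map_mul]; exact (QuotientGroup.eq_one_iff _).2 (hgsq v hv)
      | one => exact one_mul 1
      | mul u v hu hv e1 e2 =>
        rw [(show Commute v u from congrArg Subtype.val (hcmq.is_comm.comm ⟨v, hv⟩ ⟨u, hu⟩)).mul_mul_mul_comm,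
          e1, e2, one_mul]
      | inv u _ e => rw [← mul_inv_rev, e, inv_one]
    have h1 : q a ∈ closure (q '' ((Om : Set X) ∪ I)) := by
      rw [← MonoidHom.map_closure]; exact mem_map_of_mem q ha
    have h2 := hall _ h1
    rw [← map_mul] at h2
    exact (QuotientGroup.eq_one_iff _).1 h2
  have hOmR : Om ≤ R := fun a ha => subset_closure (Or.inl ha)
  have hIR : ∀ {a : X}, a ∈ I → a ∈ R := fun ha => subset_closure (Or.inr ha)
  have hR4 : Om.relIndex R ≤ 4 := by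
    have h := H.sect R W hsqR
    rw [← relIndex_mul_relIndex W Om R hWOm hOmR, hOm4] at h
    omega
  have hbrk : ∀ a ∈ R, ∀ b ∈ R, a * b * a⁻¹ * b⁻¹ ∈ W := by
    intro a ha b hb
    rw [show a * b * a⁻¹ * b⁻¹ = a * a * (a⁻¹ * b * (a⁻¹ * b)) * (b⁻¹ * b⁻¹) by group]
    exact mul_mem (mul_mem (hsqR a ha) (hsqR _ (mul_mem (inv_mem ha) hb))) (hsqR _ (inv_mem hb))
  have hRφ : ∀ {a : X}, a ∈ I → φ a ∈ I := fun {a} ha =>
    ⟨hD φ (H.le H.phi_mem) a ha.1, by rw [← map_mul, ha.2, map_one]⟩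
  -- the involutions commute
  have hcomI : ∀ a ∈ I, ∀ b ∈ I, a * b = b * a := by
    intro a ha b hb
    by_cases hbN : b ∈ Om ⊔ zpowers a
    · have hle : Om ⊔ zpowers a ≤ centralizer ({a} : Set X) :=
        sup_le (fun u hu => mem_centralizer_singleton_iff.2 (hct a ha.1 ha.2 u hu.1 hu.2).symm)
          (zpowers_le.2 (mem_centralizer_singleton_iff.2 rfl))
      exact (mem_centralizer_singleton_iff.1 (hle hbN)).symm
    by_cases haOm : a ∈ Om
    · exact (hct b hb.1 hb.2 a haOm.1 haOm.2).symm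
    set N1 := Om ⊔ zpowers a
    have hN1R : N1 ≤ R := sup_le hOmR (zpowers_le.2 (hIR ha))
    set N2 := N1 ⊔ zpowers b
    have hN2R : N2 ≤ R := sup_le hN1R (zpowers_le.2 (hIR hb))
    have htop : R ≤ N2 := by
      have e1 := relIndex_mul_relIndex Om N2 R (le_sup_left.trans le_sup_left) hN2R
      have e2 := relIndex_mul_relIndex Om N1 N2 le_sup_left le_sup_left
      have f1 : 2 ≤ Om.relIndex N1 := one_lt_relIndex fun hle => haOm (hle (mem_sup_right (mem_zpowers a)))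
      have f2 : 2 ≤ N1.relIndex N2 := one_lt_relIndex fun hle => hbN (hle (mem_sup_right (mem_zpowers b)))
      have f3 : 4 ≤ Om.relIndex N2 := by rw [← e2]; exact Nat.mul_le_mul f1 f2
      refine relIndex_eq_one.1 ?_
      have f4 : N2.relIndex R ≠ 0 := index_ne_zero_of_finite
      by_contra hne
      have : 4 * 2 ≤ Om.relIndex N2 * N2.relIndex R := Nat.mul_le_mul f3 (by omega)
      omega
    set c := a * b * a⁻¹ * b⁻¹ with hc
    have hcW : c ∈ W := hcm a ha.1 b hb.1 ha.2 hb.2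
    have hK : ∀ x ∈ R, x * a * x⁻¹ * a⁻¹ ∈ zpowers c → x * b * x⁻¹ * b⁻¹ ∈ zpowers c →
        (∀ u ∈ Om, x * u * x⁻¹ * u⁻¹ ∈ zpowers c) → ∀ y ∈ R, x * y * x⁻¹ * y⁻¹ ∈ zpowers c := by
      intro x hx hxa hxb hxu y hy
      let g : R →* X :=
        { toFun := fun y => x * y * x⁻¹ * (y : X)⁻¹
          map_one' := by simp
          map_mul' := fun p q => by
            show x * ((p : X) * q) * x⁻¹ * ((p : X) * q)⁻¹ = _
            calc x * ((p : X) * q) * x⁻¹ * ((p : X) * q)⁻¹ = (x * p * x⁻¹) * (x * q * x⁻¹ * (q : X)⁻¹) * (p : X)⁻¹ := by group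
              _ = (x * p * x⁻¹) * ((p : X)⁻¹ * (x * q * x⁻¹ * (q : X)⁻¹)) := by
                rw [S.cen (hbrk x hx q q.2) (p : X)⁻¹, mul_assoc]
              _ = _ := by group }
      have hle : R ≤ ((zpowers c).comap g).map R.subtype := by
        refine htop.trans (sup_le (sup_le (fun u hu => ?_) (zpowers_le.2 ?_)) (zpowers_le.2 ?_))
        · exact ⟨⟨u, hOmR hu⟩, hxu u hu, rfl⟩
        · exact ⟨⟨a, hIR ha⟩, hxa, rfl⟩
        · exact ⟨⟨b, hIR hb⟩, hxb, rfl⟩
      obtain ⟨y', hy', rfl⟩ := hle hy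
      exact hy'
    have hone : ∀ p q : X, p * q = q * p → p * q * p⁻¹ * q⁻¹ ∈ zpowers c := fun p q hpq => by
      rw [hpq, mul_inv_cancel_right, mul_inv_cancel]; exact one_mem _
    have hsy : ∀ p q : X, p * q * p⁻¹ * q⁻¹ ∈ zpowers c → q * p * q⁻¹ * p⁻¹ ∈ zpowers c := fun p q hpq => by
      rw [show q * p * q⁻¹ * p⁻¹ = (p * q * p⁻¹ * q⁻¹)⁻¹ by group]; exact inv_mem hpq
    have hau := fun u (hu : u ∈ Om) => hone a u (hct a ha.1 ha.2 u hu.1 hu.2)
    have hbu := fun u (hu : u ∈ Om) => hone b u (hct b hb.1 hb.2 u hu.1 hu.2)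
    have hca := hK a (hIR ha) (hone a a rfl) (mem_zpowers c) hau
    have hcb := hK b (hIR hb) (hsy a b (mem_zpowers c)) (hone b b rfl) hbu
    have hcu : ∀ u ∈ Om, ∀ y ∈ R, u * y * u⁻¹ * y⁻¹ ∈ zpowers c := fun u hu =>
      hK u (hOmR hu) (hsy a u (hau u hu)) (hsy b u (hbu u hu)) fun v hv => hone u v (S.hUab u hu.1 v hv.1)
    have hall : ∀ x ∈ R, ∀ y ∈ R, x * y * x⁻¹ * y⁻¹ ∈ zpowers c := fun x hx =>
      hK x hx (hsy a x (hca x hx)) (hsy b x (hcb x hx)) fun u hu => hsy u x (hcu u hu x hx)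
    have hφc : φ c ∈ zpowers c := by
      rw [hc, map_mul, map_mul, map_mul, map_inv, map_inv]
      exact hall _ (hIR (hRφ ha)) _ (hIR (hRφ hb))
    obtain ⟨i, hi⟩ := mem_zpowers_iff.1 hφc
    have hc1 : c = 1 := by
      rcases Int.even_or_odd i with ⟨j, rfl⟩ | ⟨j, rfl⟩
      · rw [← two_mul, zpow_mul, zpow_two, F.hW2 c hcW, one_zpow] at hi
        exact φ.injective (hi.symm.trans (map_one φ).symm)
      · rw [zpow_add, zpow_mul, zpow_two, F.hW2 c hcW, one_zpow, one_mul, zpow_one] at hi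
        exact F.hfree c hcW hi.symm
    rwa [hc, mul_inv_eq_one, mul_inv_eq_iff_eq_mul] at hc1
  -- they form an invariant elementary group
  set E := closure ((W : Set X) ∪ I) with hE
  have hgen : ∀ a ∈ (W : Set X) ∪ I, a * a = 1 ∧ ∀ b ∈ (W : Set X) ∪ I, a * b = b * a := by
    rintro a (ha | ha)
    · exact ⟨F.hW2 a ha, fun b _ => (S.cen ha b).symm⟩
    · refine ⟨ha.2, fun b hb => ?_⟩
      rcases hb with hb | hb
      exacts [S.cen hb a, hcomI a ha b hb]
  haveI hcmE : IsMulCommutative E := Subgroup.isMulCommutative_closure fun a ha => (hgen a ha).2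
  have hEinv : Inv B E := by
    intro ψ hψ
    have : E ≤ E.comap ψ.toMonoidHom := (closure_le _).2 (by
      rintro a (ha | ha)
      · exact subset_closure (Or.inl (hWB ψ hψ a ha))
      · exact subset_closure (Or.inr ⟨hD ψ hψ a ha.1, by
          show ψ a * ψ a = 1
          rw [← map_mul, ha.2, map_one]⟩))
    exact this
  have hE2 : ∀ e ∈ E, e * e = 1 := by
    intro e he
    induction he using Subgroup.closure_induction with
    | mem y hy => exact (hgen y hy).1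
    | one => exact one_mul 1
    | mul u v hu hv e1 e2 =>
      rw [(show Commute v u from congrArg Subtype.val (hcmE.is_comm.comm ⟨v, hv⟩ ⟨u, hu⟩)).mul_mul_mul_comm,
        e1, e2, one_mul]
    | inv u _ e => rw [← mul_inv_rev, e, inv_one]
  have heq : W = E := eq_of_le_of_card_ge (fun w hw => subset_closure (Or.inl hw))
    (by rw [F.hW4]; exact H.small E hEinv hE2)
  rw [heq]
  exact subset_closure (Or.inr ⟨ht₀, ht₀2⟩)

theorem commute_of_translation {U W : Subgroup X} {k : ℕ} (S : Layer A U W φ k) (hk3 : 3 ≤ k) {a z : X}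
    (ha : ∀ u ∈ U, brk a u ∈ W) (hz : z ∈ U) (hz4 : z ^ 4 = 1) : a * z = z * a := by
  obtain ⟨v, hv, rfl⟩ := S.sqroot 2 z hz (by simpa using hz4) (by omega)
  have h1 : brk a (v * v) = 1 := by rw [S.brk_mul a hv hv, S.F.hW2 _ (ha v hv)]
  have h : a * (v * v) * a⁻¹ * (v * v)⁻¹ = 1 := h1
  rwa [mul_inv_eq_one, mul_inv_eq_iff_eq_mul] at h

theorem brk_of_translations {U W : Subgroup X} {k : ℕ} (S : Layer A U W φ k)
    (hCU : ∀ x : X, (∀ u ∈ U, brk x u = 1) → x ∈ U) (hk3 : 3 ≤ k) {t r : X} (ht : ∀ u ∈ U, brk t u ∈ W)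
    (hr : ∀ u ∈ U, brk r u ∈ W) (ht2 : t * t = 1) (hr2 : r * r = 1) : t * r * t⁻¹ * r⁻¹ ∈ W := by
  set s := t * r * t⁻¹ * r⁻¹ with hs
  have key : ∀ p q : X, (∀ u ∈ U, brk q u ∈ W) → ∀ u, u ∈ U →
      p * q * u * (p * q)⁻¹ = brk q u * (brk p u * u) := by
    intro p q hq u hu
    calc p * q * u * (p * q)⁻¹ = p * (brk q u * u) * p⁻¹ := by simp only [brk]; group
      _ = (p * brk q u) * u * p⁻¹ := by group
      _ = brk q u * (p * u * p⁻¹) := by rw [S.cen (hq u hu) p]; group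
      _ = _ := by simp only [brk]; group
  have hsU : s ∈ U := by
    refine hCU s fun z hz => ?_
    have hz' : (r * t)⁻¹ * z * (r * t) ∈ U := by simpa using S.hUn.conj_mem z hz (r * t)⁻¹
    set w := (r * t)⁻¹ * z * (r * t) with hw
    have e1 : t * r * w * (t * r)⁻¹ = r * t * w * (r * t)⁻¹ := by
      rw [key t r hr w hz', key r t ht w hz', ← mul_assoc (brk r w) (brk t w) w,
        S.F.comm (hr w hz') (ht w hz'), mul_assoc]
    show s * z * s⁻¹ * z⁻¹ = 1
    rw [mul_inv_eq_one]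
    calc s * z * s⁻¹ = t * r * w * (t * r)⁻¹ := by simp only [hs, hw]; group
      _ = r * t * w * (r * t)⁻¹ := e1
      _ = z := by simp only [hw]; group
  have hti : t⁻¹ = t := inv_eq_of_mul_eq_one_right ht2
  have hri : r⁻¹ = r := inv_eq_of_mul_eq_one_right hr2
  have hinv : t * s * t⁻¹ = s⁻¹ := by
    simp only [hs, mul_inv_rev, inv_inv, hti, hri]
    calc t * (t * r * t * r) * t = (t * t) * r * t * r * t := by group
      _ = r * (t * (r * t)) := by rw [ht2, one_mul]; group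
  have hb := ht s hsU
  have h4 : s ^ 4 = 1 := by
    have h1 : (brk t s) * (brk t s) = 1 := S.F.hW2 _ hb
    have h2 : brk t s = s⁻¹ * s⁻¹ := by
      show t * s * t⁻¹ * s⁻¹ = _
      rw [hinv]
    rw [h2] at h1
    calc s ^ 4 = (s⁻¹ * s⁻¹ * (s⁻¹ * s⁻¹))⁻¹ := by group
      _ = 1 := by rw [h1, inv_one]
  have hc := commute_of_translation S hk3 ht hsU h4
  refine S.hom1 s hsU ?_
  rw [hc, mul_inv_cancel_right] at hinv
  exact mul_eq_one_iff_eq_inv.2 hinv

/-- The centralizer of a maximal layer is the layer. -/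
theorem centralizer_le (H : Setting A B φ) {U W : Subgroup X} {k : ℕ}
    (S : Layer A U W φ k) (hUB : Inv B U) (hWB : Inv B W)
    (hmax : ∀ Q : Subgroup X, Q.Normal → Inv B Q → (∀ a ∈ Q, ∀ b ∈ Q, a * b = b * a) → U ≤ Q → Q ≤ U) :
    centralizer (U : Set X) ≤ U := by
  haveI := S.hUn
  have F := S.F
  have hlayer := centralizer_layer H.two S.hUab hUB hmax
  set P := centralizer (U : Set X) with hP
  haveI hPn : P.Normal := by rw [hP]; infer_instance
  have hPU : ∀ p ∈ P, ∀ u ∈ U, p * u = u * p := fun p hp u hu => (mem_centralizer_iff.1 hp u hu).symm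
  have hUP : U ≤ P := fun a ha => mem_centralizer_iff.2 fun b hb => S.hUab b hb a ha
  have hPB : Inv B P := by
    intro ψ hψ p hp
    refine mem_centralizer_iff.2 fun u hu => ?_
    have h := congrArg ψ (mem_centralizer_iff.1 hp _ (hUB _ (B.inv_mem hψ) u hu))
    rwa [map_mul, map_mul, MulAut.apply_inv_self] at h
  let g : X → X := fun p => (p * p) ^ 2 ^ (k - 1)
  have hgW : ∀ p ∈ P, g p ∈ W := fun p hp => S.theta_mem (hlayer p hp).1
  have hW : ∀ p ∈ P, ∀ q ∈ P, p * q * p⁻¹ * q⁻¹ ∈ W := fun p hp q hq =>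
    S.hom1 _ ((hlayer p hp).2 q hq).1 ((hlayer p hp).2 q hq).2
  have gmul : ∀ p ∈ P, ∀ q ∈ P, g (p * q) = g p * g q := by
    intro p hp q hq
    have hc := hW q hq p hp
    have e : p * q * (p * q) = (q * p * q⁻¹ * p⁻¹) * ((p * p) * (q * q)) := by
      calc p * q * (p * q) = (p * (q * p * q⁻¹ * p⁻¹)) * (p * (q * q)) := by group
        _ = _ := by rw [S.cen hc p]; group
    show (p * q * (p * q)) ^ 2 ^ (k - 1) = (p * p) ^ 2 ^ (k - 1) * (q * q) ^ 2 ^ (k - 1)
    rw [e, S.pw (S.hWU hc) (U.mul_mem (hlayer p hp).1 (hlayer q hq).1), S.pw (hlayer p hp).1 (hlayer q hq).1,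
      show k - 1 = (k - 2) + 1 by have := S.hk; omega, pow_succ' 2 (k - 2), pow_mul (q * p * q⁻¹ * p⁻¹), pow_two,
      F.hW2 _ hc, one_pow, one_mul]
  have gU : ∀ u ∈ U, g u = 1 := fun u hu => by
    show (u * u) ^ 2 ^ (k - 1) = 1
    rw [← pow_two, ← pow_mul, ← pow_succ', show k - 1 + 1 = k from by have := S.hk; omega]
    exact S.hexp u hu
  -- the kernel
  have hker : ∀ p ∈ P, g p = 1 → p ∈ U := by
    intro p hp hgp
    obtain ⟨v, hv, hvv⟩ := S.sqroot (k - 1) (p * p) (hlayer p hp).1 hgp (by have := S.hk; omega)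
    set t := p * v⁻¹ with ht
    have hvp : v⁻¹ * p = p * v⁻¹ := (hPU p hp _ (U.inv_mem hv)).symm
    have htt : t * t = 1 := by
      calc t * t = p * (v⁻¹ * p) * v⁻¹ := by simp only [ht]; group
        _ = p * (p * v⁻¹) * v⁻¹ := by rw [hvp]
        _ = (p * p) * (v * v)⁻¹ := by group
        _ = 1 := by rw [hvv, mul_inv_cancel]
    have htP : t ∈ P := P.mul_mem hp (hUP (U.inv_mem hv))
    have htW : t ∈ W := no_involution H S hUB hWB (D := (P : Set X)) hPB
      (fun p' hp' q hq _ _ => hW p' hp' q hq) (fun p' hp' _ u hu _ => hPU p' hp' u hu) htP htt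
    rw [show p = t * v by rw [ht, inv_mul_cancel_right]]
    exact U.mul_mem (S.hWU htW) hv
  -- commutation
  by_contra hnot
  obtain ⟨p, hp, hpU⟩ := SetLike.not_le_iff_exists.1 hnot
  set w := g p with hw
  have hwW : w ∈ W := hgW p hp
  have hw1 : w ≠ 1 := fun h => hpU (hker p hp h)
  have gφ : ∀ q : X, g (φ q) = φ (g q) := fun q => by
    show (φ q * φ q) ^ 2 ^ (k - 1) = φ ((q * q) ^ 2 ^ (k - 1))
    rw [map_pow, map_mul]
  set b := φ p with hb
  have hbP : b ∈ P := hPB φ (H.le F.hφ) p hp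
  have hφbP : φ b ∈ P := hPB φ (H.le F.hφ) b hbP
  have gb : g b = φ w := gφ p
  have hu : φ b * (p * b) ∈ U := hker _ (P.mul_mem hφbP (P.mul_mem hp hbP)) (by
    rw [gmul _ hφbP _ (P.mul_mem hp hbP), gmul p hp b hbP, gφ b, gb, F.phi2 hwW, ← hw,
      F.hW2 _ (W.mul_mem hwW (F.phi_mem hwW))])
  set u' := φ b * (p * b) with hu'
  have hφb : φ b = u' * (p * b)⁻¹ := by rw [hu', mul_inv_cancel_right]
  have hc : p * b * p⁻¹ * b⁻¹ = 1 := by
    have hcW := hW p hp b hbP
    refine F.hfree _ hcW ?_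
    rw [map_mul, map_mul, map_mul, map_inv, map_inv, ← hb, hφb]
    clear_value u' b
    have he : p⁻¹ * b⁻¹ * p * b ∈ W := by
      have := hW _ (P.inv_mem hp) _ (P.inv_mem hbP)
      rwa [inv_inv, inv_inv] at this
    calc b * (u' * (p * b)⁻¹) * b⁻¹ * (u' * (p * b)⁻¹)⁻¹ = (b * u') * (b⁻¹ * p⁻¹ * b⁻¹ * p * b) * u'⁻¹ := by group
      _ = (u' * b) * (b⁻¹ * p⁻¹ * b⁻¹ * p * b) * u'⁻¹ := by rw [hPU b hbP u' hu]
      _ = u' * (p⁻¹ * b⁻¹ * p * b) * u'⁻¹ := by group
      _ = p⁻¹ * b⁻¹ * p * b := by rw [S.cen he u', mul_inv_cancel_right]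
      _ = (b * p) * (p⁻¹ * b⁻¹ * p * b) * (b * p)⁻¹ := by rw [S.cen he (b * p), mul_inv_cancel_right]
      _ = _ := by group
  have hpb : p * b = b * p := by rwa [mul_inv_eq_one, mul_inv_eq_iff_eq_mul] at hc
  have hgen : ∀ q ∈ P, ∃ u ∈ U, q = u ∨ q = u * p ∨ q = u * b ∨ q = u * (p * b) := by
    intro q hq
    have hφw := F.phi_mem hwW
    have one : ∀ r ∈ P, g q = g r → q * r⁻¹ ∈ U := fun r hr h => hker _ (P.mul_mem hq (P.inv_mem hr)) (by
      have h1 := gmul _ (P.mul_mem hq (P.inv_mem hr)) r hr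
      rw [inv_mul_cancel_right, h] at h1
      exact right_eq_mul.1 h1)
    rcases F.orbit hwW hw1 (g q) (hgW q hq) with h | h | h | h
    · exact ⟨q, hker q hq h, Or.inl rfl⟩
    · exact ⟨_, one p hp h, Or.inr (Or.inl (by rw [inv_mul_cancel_right]))⟩
    · exact ⟨_, one b hbP (h.trans gb.symm), Or.inr (Or.inr (Or.inl (by rw [inv_mul_cancel_right])))⟩
    · refine ⟨_, one (p * b) (P.mul_mem hp hbP) ?_, Or.inr (Or.inr (Or.inr (by rw [inv_mul_cancel_right])))⟩
      rw [h, F.phi2 hwW, gmul p hp b hbP, gb]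
  have hcomp : ∀ r ∈ P, r * p = p * r → r * b = b * r → ∀ q ∈ P, q * r = r * q := by
    intro r hr h1 h2 q hq
    obtain ⟨u, hu, e⟩ := hgen q hq
    have hur : Commute u r := (hPU r hr u hu).symm
    rcases e with rfl | rfl | rfl | rfl
    · exact hur
    · exact hur.mul_left h1.symm
    · exact hur.mul_left h2.symm
    · exact hur.mul_left ((show Commute p r from h1.symm).mul_left h2.symm)
  refine hpU (hmax P hPn hPB (fun r hr q hq => ?_) hUP hp)
  exact (hcomp r hr (hcomp p hp rfl hpb r hr) (hcomp b hbP hpb.symm rfl r hr) q hq).symm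

/-- Exponent at least eight is impossible. -/
theorem false_of_three_le (H : Setting A B φ) {U W : Subgroup X} {k : ℕ} (S : Layer A U W φ k)
    (hUB : Inv B U) (hWB : Inv B W)
    (hCU : ∀ x : X, (∀ u ∈ U, brk x u = 1) → x ∈ U) (hUtop : U ≠ ⊤) (hk3 : 3 ≤ k) : False := by
  obtain ⟨t, L, hlev, hrep, hL, hker⟩ := S.exists_top_level H.two H.twist hCU hUtop
  have F := S.F
  have dt : ∀ u ∈ U, brk t u = L (u ^ 2 ^ (k - 1)) := fun u hu => by
    have h := hrep u hu
    rwa [show k - 1 - (k - 1) = 0 by omega, pow_zero, pow_one] at h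
  have dmem : ∀ u ∈ U, brk t u ∈ W := fun u hu => by rw [dt u hu]; exact hL.mem _ (S.theta_mem hu)
  have dsq : ∀ u ∈ U, brk t (u * u) = 1 := fun u hu => by
    rw [S.brk_mul t hu hu, F.hW2 _ (dmem u hu)]
  have htt : t * t ∈ U := hCU _ fun u hu => by
    rw [S.brk_comp t t hu, S.brk_center t (dmem u hu), one_mul, F.hW2 _ (dmem u hu)]
  obtain ⟨v, hv, hvv⟩ := S.sqroot (k - 1) (t * t) htt (hker _ (S.theta_mem htt) (by
    rw [← dt _ htt]; simp only [brk]; group)) (by omega)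
  obtain ⟨r, hr, hrr, hdr⟩ : ∃ r ∈ U, r * r = brk t v⁻¹ ∧ brk t r = 1 := by
    obtain ⟨r0, hr0, h⟩ := S.root 2 1 _ (U.mul_mem (S.hUn.conj_mem _ (U.inv_mem hv) t) (U.inv_mem (U.inv_mem hv)))
      (by rw [pow_one, pow_two]; exact F.hW2 _ (dmem _ (U.inv_mem hv))) (by omega)
    refine ⟨r0 * r0, U.mul_mem hr0 hr0, ?_, dsq r0 hr0⟩
    rw [show r0 * r0 * (r0 * r0) = r0 ^ 2 ^ 2 by rw [show (2 : ℕ) ^ 2 = 2 + 2 by norm_num, pow_add, pow_two], h]
    rfl
  set u := v⁻¹ * r with hu_def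
  have hu : u ∈ U := U.mul_mem (U.inv_mem hv) hr
  have hdu : brk t u = brk t v⁻¹ := by rw [hu_def, S.brk_mul t (U.inv_mem hv) hr, hdr, mul_one]
  set t' := t * u with ht'
  have ht'2 : t' * t' = 1 := by
    have hc : brk t v⁻¹ ∈ W := dmem _ (U.inv_mem hv)
    calc t' * t' = brk t u * (u * (t * t) * u) := by simp only [ht', brk]; group
      _ = brk t v⁻¹ * ((t * t) * (u * u)) := by
        rw [hdu, S.hUab u hu _ htt, mul_assoc (t * t) u u]
      _ = brk t v⁻¹ * ((v * v) * ((v⁻¹ * v⁻¹) * (r * r))) := by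
        have e : u * u = (v⁻¹ * v⁻¹) * (r * r) := by
          rw [← pow_two, ← pow_two, ← pow_two]
          exact S.pw (U.inv_mem hv) hr 2
        rw [e, hvv]
      _ = brk t v⁻¹ * (r * r) := by group
      _ = 1 := by rw [hrr, F.hW2 _ hc]
  have dt' : ∀ z ∈ U, brk t' z = brk t z := by
    intro z hz
    have h : brk u z = 1 := by
      show u * z * u⁻¹ * z⁻¹ = 1
      rw [S.hUab u hu z hz, mul_inv_cancel_right, mul_inv_cancel]
    rw [ht', S.brk_comp t u hz, h, Layer.brk_one, one_mul, mul_one]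
  have dsq' : ∀ z ∈ U, brk t' (z * z) = 1 := fun z hz => by rw [dt' _ (U.mul_mem hz hz)]; exact dsq z hz
  have htW : t' ∈ W := by
    refine no_involution H S hUB hWB (D := {x : X | ∀ z ∈ U, brk x z ∈ W}) ?_ ?_ ?_
      (fun z hz => by rw [dt' z hz]; exact dmem z hz) ht'2
    · intro ψ hψ x hx z hz
      have hz' : (ψ⁻¹ : MulAut X) z ∈ U := hUB _ (B.inv_mem hψ) z hz
      rw [show z = ψ ((ψ⁻¹ : MulAut X) z) by rw [MulAut.apply_inv_self], Layer.brk_map]
      exact hWB ψ hψ _ (hx _ hz')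
    · exact fun a ha r hr ha2 hr2 => brk_of_translations S hCU hk3 ha hr ha2 hr2
    · exact fun a ha _ z hz hz4 => commute_of_translation S hk3 ha hz hz4
  obtain ⟨c, hc, hc1⟩ := F.exists_ne
  obtain ⟨z, hz, rfl⟩ := S.theta_surj hc
  refine hc1 (hker _ hc ?_)
  rw [← dt z hz, ← dt' z hz]
  show t' * z * t'⁻¹ * z⁻¹ = 1
  rw [← S.cen htW z, mul_inv_cancel_right, mul_inv_cancel]

end CfsgLib.NormalRankTwo
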