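import Mathlib

/-!
# A quaternion subgroup of a 2-group of sectional rank two

It contains its centralizer, and one of its cyclic subgroups of order four is normal.
-/

set_option autoImplicit false
set_option linter.unusedSectionVars false
set_option linter.style.haveILetI false

open Subgroup

namespace CfsgLib.NormalRankTwo

universe u

variable {K : Type u} [Group K] [Finite K]

/-- Every elementary section has order at most four. -/
def RankTwo (K : Type u) [Group K] : Prop :=
  ∀ S N : Subgroup K, (∀ a ∈ S, a * a ∈ N) → N.relIndex S ≤ 4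

/-- A subgroup of order eight with one involution and all squares in the group it generates. -/
structure QuatData (R : Subgroup K) (r₀ : K) : Prop where
  card : Nat.card R = 8
  mem : r₀ ∈ R
  ne : r₀ ≠ 1
  two : r₀ * r₀ = 1
  sq : ∀ r ∈ R, r * r = 1 ∨ r * r = r₀
  inv : ∀ r ∈ R, r * r = 1 → r = 1 ∨ r = r₀

namespace QuatData

variable {R : Subgroup K} {r₀ : K} (Q : QuatData R r₀)
include Q

theorem mem_zp {a : K} : a ∈ zpowers r₀ ↔ a = 1 ∨ a = r₀ := by
  constructor
  · rintro ⟨i, rfl⟩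
    rcases Int.even_or_odd i with ⟨l, rfl⟩ | ⟨l, rfl⟩
    · left; show r₀ ^ (l + l) = 1; rw [← two_mul, zpow_mul, zpow_two, Q.two, one_zpow]
    · right; show r₀ ^ (2 * l + 1) = r₀; rw [zpow_add, zpow_mul, zpow_two, Q.two, one_zpow, one_mul, zpow_one]
  · rintro (rfl | rfl)
    exacts [one_mem _, mem_zpowers _]

theorem comm {r : K} (hr : r ∈ R) : r * r₀ = r₀ * r := by
  rcases Q.sq r hr with h | h
  · rcases Q.inv r hr h with rfl | rfl
    · rw [one_mul, mul_one]
    · rfl
  · rw [← h, mul_assoc]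

theorem sq_mem {r : K} (hr : r ∈ R) : r * r ∈ zpowers r₀ := Q.mem_zp.2 (Q.sq r hr)

theorem card_zp : Nat.card (zpowers r₀) = 2 := by
  rw [Nat.card_zpowers]
  exact orderOf_eq_prime (by rw [pow_two]; exact Q.two) Q.ne

/-- An element centralizing `R` modulo its involution and squaring into it lies in `R`. -/
theorem mem_of_rankTwo (hK : RankTwo K) {a : K} (ha2 : a * a ∈ zpowers r₀)
    (hcomm : ∀ r ∈ R, a * r * a⁻¹ * r⁻¹ ∈ zpowers r₀) : a ∈ R := by
  have hNR : zpowers r₀ ≤ R := zpowers_le.2 Q.mem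
  have hfwd : ∀ r ∈ R, a * r * a⁻¹ ∈ R := fun r hr => by
    have h := mul_mem (hNR (hcomm r hr)) hr
    rwa [inv_mul_cancel_right] at h
  have haN : a ∈ normalizer (R : Set K) := by
    refine mem_normalizer_iff.2 fun v => ⟨hfwd v, fun hv => ?_⟩
    have e : R.map (MulAut.conj a).toMonoidHom = R := eq_of_le_of_card_ge
      (by rintro _ ⟨x, hx, rfl⟩; exact hfwd x hx) (le_of_eq (card_map_of_injective (MulAut.conj a).injective).symm)
    rw [← e] at hv
    obtain ⟨x, hx, hxe⟩ := hv
    rwa [(MulAut.conj a).injective hxe] at hx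
  have hsq : ∀ s ∈ R ⊔ zpowers a, s * s ∈ zpowers r₀ := by
    intro s hs
    rw [← SetLike.mem_coe, coe_mul_of_right_le_normalizer_left R _ (zpowers_le.2 haN)] at hs
    obtain ⟨r, hr, y, hy, rfl⟩ := hs
    obtain ⟨i, rfl⟩ := mem_zpowers_iff.1 hy
    have heven : ∀ l : ℤ, a ^ (2 * l) ∈ R := fun l => by
      rw [zpow_mul, zpow_two]; exact zpow_mem (hNR ha2) l
    rcases Int.even_or_odd i with ⟨l, rfl⟩ | ⟨l, rfl⟩
    · exact Q.sq_mem (mul_mem hr (by rw [← two_mul]; exact heven l))
    · show r * a ^ (2 * l + 1) * (r * a ^ (2 * l + 1)) ∈ zpowers r₀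
      rw [zpow_add, zpow_one, ← mul_assoc r (a ^ (2 * l)) a]
      set r' := r * a ^ (2 * l)
      have hr' : r' ∈ R := mul_mem hr (heven l)
      have hw := hcomm r' hr'
      have hwc : r' * (a * r' * a⁻¹ * r'⁻¹) = (a * r' * a⁻¹ * r'⁻¹) * r' := by
        rcases Q.mem_zp.1 hw with h | h <;> rw [h]
        · rw [one_mul, mul_one]
        · exact Q.comm hr'
      rw [show r' * a * (r' * a) = (r' * (a * r' * a⁻¹ * r'⁻¹)) * r' * (a * a) by group, hwc,
        mul_assoc _ r' r']
      exact mul_mem (mul_mem hw (Q.sq_mem hr')) ha2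
  have h := hK _ _ hsq
  rw [← relIndex_mul_relIndex (zpowers r₀) R _ hNR le_sup_left] at h
  have hi : (zpowers r₀).relIndex R = 4 := by
    have := relIndex_mul_relIndex ⊥ (zpowers r₀) R bot_le hNR
    rw [relIndex_bot_left, relIndex_bot_left, Q.card_zp, Q.card] at this
    omega
  rw [hi] at h
  have h0 : R.relIndex (R ⊔ zpowers a) ≠ 0 := index_ne_zero_of_finite
  have h1 : R.relIndex (R ⊔ zpowers a) = 1 := by omega
  exact relIndex_eq_one.1 h1 (mem_sup_right (mem_zpowers a))

theorem mem_zp_of_central {k : K} (hkR : k ∈ R) (hc : ∀ r ∈ R, k * r = r * k) : k ∈ zpowers r₀ := by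
  rcases Q.sq k hkR with h | h
  · exact Q.mem_zp.2 (Q.inv k hkR h)
  exfalso
  have hk4 : Nat.card (zpowers k) ≤ 4 := by
    rw [Nat.card_zpowers]
    exact orderOf_le_of_pow_eq_one (by norm_num)
      (by rw [show (4 : ℕ) = 2 + 2 by norm_num, pow_add, pow_two, h, Q.two])
  have hr₀k : r₀ ∈ zpowers k := h ▸ mul_mem (mem_zpowers k) (mem_zpowers k)
  have hle : R ≤ zpowers k := by
    intro r hr
    rcases Q.sq r hr with h' | h'
    · rcases Q.inv r hr h' with rfl | rfl
      exacts [one_mem _, hr₀k]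
    · have h2 : r * k * (r * k) = 1 := by
        rw [(show Commute k r from hc r hr).mul_mul_mul_comm, h', h, Q.two]
      have h3 : r * k ∈ zpowers k := by
        rcases Q.inv _ (mul_mem hr hkR) h2 with e | e <;> rw [e]
        exacts [one_mem _, hr₀k]
      simpa using mul_mem h3 (inv_mem (mem_zpowers k))
  have := Subgroup.card_le_of_le hle
  rw [Q.card] at this
  omega

/-- The centralizer of `R` is its involution. -/
theorem centralizer_le (hp : IsPGroup 2 K) (hK : RankTwo K) {k : K} (hc : ∀ r ∈ R, k * r = r * k) :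
    k ∈ zpowers r₀ := by
  obtain ⟨i, hi⟩ := hp k
  induction i generalizing k with
  | zero => rw [pow_zero, pow_one] at hi; rw [hi]; exact one_mem _
  | succ i ih =>
    have hkk : k * k ∈ zpowers r₀ := ih
      (fun r hr => ((show Commute k r from hc r hr).mul_left (hc r hr)).eq)
      (by rw [← pow_two, ← pow_mul, ← pow_succ']; exact hi)
    refine Q.mem_zp_of_central (Q.mem_of_rankTwo hK hkk fun r hr => ?_) hc
    rw [hc r hr, mul_inv_cancel_right, mul_inv_cancel]
    exact one_mem _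

/-- A cyclic subgroup of order four of `R` is normal in the whole group. -/
theorem exists_normal_four (hp : IsPGroup 2 K) (hK : RankTwo K) :
    (∀ k, k * r₀ = r₀ * k) ∧ ∃ d ∈ R, d * d = r₀ ∧ ∀ k, k * d * k⁻¹ = d ∨ k * d * k⁻¹ = d⁻¹ := by
  haveI : Fact (Nat.Prime 2) := ⟨Nat.prime_two⟩
  haveI : Nontrivial K := ⟨r₀, 1, Q.ne⟩
  haveI := hp.center_nontrivial
  obtain ⟨⟨z, hz⟩, hz1⟩ := exists_ne (1 : center K)
  have hzc : ∀ k, k * z = z * k := fun k => mem_center_iff.1 hz k
  have hzr : z = r₀ :=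
    (Q.mem_zp.1 (Q.centralizer_le hp hK fun r _ => (hzc r).symm)).resolve_left fun e => hz1 (Subtype.ext e)
  subst hzr
  refine ⟨hzc, ?_⟩
  haveI : (zpowers z).Normal := ⟨fun a ha g => by
    rcases Q.mem_zp.1 ha with rfl | rfl
    · rw [mul_one, mul_inv_cancel]; exact one_mem _
    · rw [hzc g, mul_inv_cancel_right]; exact mem_zpowers _⟩
  haveI : Nontrivial (K ⧸ zpowers z) := by
    obtain ⟨r, hr, hrn⟩ : ∃ r ∈ R, r ∉ zpowers z := by
      by_contra h
      push Not at h
      have := Subgroup.card_le_of_le h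
      rw [Q.card, Q.card_zp] at this
      omega
    exact ⟨(r : K ⧸ zpowers z), 1, fun e => hrn ((QuotientGroup.eq_one_iff r).1 e)⟩
  have hq := hp.to_quotient (zpowers z)
  haveI := hq.center_nontrivial
  obtain ⟨n, hn⟩ := IsPGroup.iff_card.1 (hq.to_subgroup (center (K ⧸ zpowers z)))
  obtain ⟨w, hw⟩ := exists_prime_orderOf_dvd_card' (G := center (K ⧸ zpowers z)) 2 (by
    rw [hn]
    refine dvd_pow_self 2 fun e => ?_
    have h1 : 1 < Nat.card (center (K ⧸ zpowers z)) := Finite.one_lt_card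
    rw [hn, e, pow_zero] at h1
    omega)
  obtain ⟨d, hd⟩ := QuotientGroup.mk_surjective w.1
  have hdn : d ∉ zpowers z := fun h => by
    rw [show w = 1 from Subtype.ext (hd.symm.trans ((QuotientGroup.eq_one_iff d).2 h)), orderOf_one] at hw
    omega
  have hdd : d * d ∈ zpowers z := by
    refine (QuotientGroup.eq_one_iff _).1 ?_
    rw [QuotientGroup.mk_mul, hd]
    have h := congrArg Subtype.val (pow_orderOf_eq_one w)
    rwa [hw, pow_two, coe_mul, coe_one] at h
  have hdc : ∀ k, k * d * k⁻¹ * d⁻¹ ∈ zpowers z := fun k => by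
    refine (QuotientGroup.eq_one_iff _).1 ?_
    rw [QuotientGroup.mk_mul, QuotientGroup.mk_mul, QuotientGroup.mk_mul, QuotientGroup.mk_inv,
      QuotientGroup.mk_inv, hd, mem_center_iff.1 w.2 (k : K ⧸ zpowers z), mul_inv_cancel_right, mul_inv_cancel]
  have hdR : d ∈ R := Q.mem_of_rankTwo hK hdd fun r _ => by
    have := inv_mem (hdc r)
    rwa [show (r * d * r⁻¹ * d⁻¹)⁻¹ = d * r * d⁻¹ * r⁻¹ by group] at this
  have hd2 : d * d = z := (Q.sq d hdR).resolve_left fun h => hdn (Q.mem_zp.2 (Q.inv d hdR h))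
  refine ⟨d, hdR, hd2, fun k => ?_⟩
  rcases Q.mem_zp.1 (hdc k) with h | h
  · exact Or.inl (mul_inv_eq_one.1 h)
  · refine Or.inr ?_
    rw [mul_inv_eq_iff_eq_mul] at h
    rw [h]
    refine eq_inv_of_mul_eq_one_left ?_
    rw [mul_assoc, hd2, Q.two]

end QuatData

end CfsgLib.NormalRankTwo
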