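import Cfsg.Agent.Lib.NormalRankTwo.Abelian
import Cfsg.Agent.Lib.NormalRankTwo.RankTwoQuaternion
import Cfsg.Agent.Lib.Fusion.Transfer

/-!
# A quaternion twisted part

It does not occur in a simple group.
-/

set_option autoImplicit false
set_option linter.unusedSectionVars false
set_option linter.style.haveILetI false

open Subgroup

namespace CfsgLib.NormalRankTwo

universe u

variable {G : Type u} [Group G] [Finite G]

theorem QuatData.conj {R : Subgroup G} {r₀ : G} (Q : QuatData R r₀) (g : G) :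
    QuatData (R.map (MulAut.conj g).toMonoidHom) (g * r₀ * g⁻¹) where
  card := by rw [card_map_of_injective (MulAut.conj g).injective, Q.card]
  mem := ⟨r₀, Q.mem, rfl⟩
  ne := fun h => Q.ne (conj_eq_one_iff.1 h)
  two := by rw [show g * r₀ * g⁻¹ * (g * r₀ * g⁻¹) = g * (r₀ * r₀) * g⁻¹ by group, Q.two, mul_one, mul_inv_cancel]
  sq := by
    rintro _ ⟨r, hr, rfl⟩
    show g * r * g⁻¹ * (g * r * g⁻¹) = 1 ∨ g * r * g⁻¹ * (g * r * g⁻¹) = g * r₀ * g⁻¹
    rw [show g * r * g⁻¹ * (g * r * g⁻¹) = g * (r * r) * g⁻¹ by group]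
    rcases Q.sq r hr with h | h
    · exact Or.inl (by rw [h, mul_one, mul_inv_cancel])
    · exact Or.inr (by rw [h])
  inv := by
    rintro _ ⟨r, hr, rfl⟩ h
    have h' : g * r * g⁻¹ * (g * r * g⁻¹) = 1 := h
    rw [show g * r * g⁻¹ * (g * r * g⁻¹) = g * (r * r) * g⁻¹ by group, conj_eq_one_iff] at h'
    rcases Q.inv r hr h' with e | e
    · exact Or.inl (show g * r * g⁻¹ = 1 by rw [e, mul_one, mul_inv_cancel])
    · exact Or.inr (show g * r * g⁻¹ = g * r₀ * g⁻¹ by rw [e])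

theorem QuatData.not_mem_of_inv {R X : Subgroup G} {r₀ : G} (Q : QuatData R r₀) (h : r₀ ∉ X) :
    ∀ r ∈ R, r ∈ X → r = 1 := by
  intro r hr hrX
  rcases Q.sq r hr with e | e
  · exact (Q.inv r hr e).resolve_right fun e' => h (e' ▸ hrX)
  · exact absurd (e ▸ mul_mem hrX hrX) h

theorem QuatData.image {H : Type u} [Group H] [Finite H] {R : Subgroup G} {r₀ : G} (Q : QuatData R r₀)
    (f : R →* H) (hf : Function.Injective f) : QuatData f.range (f ⟨r₀, Q.mem⟩) where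
  card := by rw [← Nat.card_congr (MonoidHom.ofInjective hf).toEquiv, Q.card]
  mem := ⟨_, rfl⟩
  ne := fun h => Q.ne (congrArg Subtype.val (hf (h.trans (map_one f).symm)))
  two := by
    rw [← map_mul, show (⟨r₀, Q.mem⟩ : R) * ⟨r₀, Q.mem⟩ = 1 from Subtype.ext Q.two, map_one]
  sq := by
    rintro _ ⟨r, rfl⟩
    rw [← map_mul]
    rcases Q.sq r r.2 with h | h
    · exact Or.inl (by rw [show r * r = 1 from Subtype.ext h, map_one])
    · exact Or.inr (congrArg f (Subtype.ext h))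
  inv := by
    rintro _ ⟨r, rfl⟩ h
    rw [← map_mul] at h
    have h' : (r : G) * r = 1 := congrArg Subtype.val (hf (h.trans (map_one f).symm))
    rcases Q.inv r r.2 h' with e | e
    · exact Or.inl (by rw [show r = 1 from Subtype.ext e, map_one])
    · exact Or.inr (congrArg f (Subtype.ext e))

/-- A quaternion twisted part is impossible. -/
theorem Frame.false_of_quaternion [IsSimpleGroup G] (hna : ¬ IsMulCommutative G) {T : Sylow 2 G} {n : G}
    {W : Subgroup G} (F : Frame T n) (S : Lay T n W) (h2 : Nat.card W = 2)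
    (h4 : W.relIndex (twisted T n) = 4) (hinv : ∀ x ∈ twisted T n, x * x = 1 → x ∈ W) : False := by
  classical
  haveI : Fact (Nat.Prime 2) := ⟨Nat.prime_two⟩
  obtain ⟨z, hz, hz1, hall⟩ := card_two_elems h2
  set X := twisted T n with hXdef
  set C := fixPart T n with hCdef
  have hXT : X ≤ (T : Subgroup G) := F.twisted_le
  have hzc : ∀ t ∈ (T : Subgroup G), t * z = z * t := fun t ht =>
    mul_inv_eq_iff_eq_mul.1 ((hall _ (S.invT t ht z hz)).resolve_left fun e => hz1 (conj_eq_one_iff.1 e))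
  have hzn : n * z * n⁻¹ = z := (hall _ (S.invn z hz)).resolve_left fun e => hz1 (conj_eq_one_iff.1 e)
  have hWn : ∀ w ∈ W, n * w * n⁻¹ = w := fun w hw => by
    rcases hall w hw with rfl | rfl
    exacts [by rw [mul_one, mul_inv_cancel], hzn]
  have hWc : ∀ t ∈ (T : Subgroup G), ∀ w ∈ W, t * w = w * t := fun t ht w hw => by
    rcases hall w hw with rfl | rfl
    exacts [by rw [mul_one, one_mul], hzc t ht]
  have hzT : z ∈ (T : Subgroup G) := hXT (S.le hz)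
  have hWC : W ≤ C := fun w hw => F.mem_fix (hXT (S.le hw)) (hWn w hw)
  have hz2 : orderOf z = 2 := orderOf_eq_prime (by rw [pow_two]; exact S.exp2 z hz) hz1
  have hX8 : Nat.card X = 8 := by
    have : Nat.card W * W.relIndex X = Nat.card X := card_mul_relIndex S.le
    rw [h2, h4] at this
    omega
  have hCX : ∀ c ∈ C, c ∈ X → c ∈ W := fun c hc hcX =>
    F.mem_of_fix_mod S.invn S.cm hcX (by rw [F.fix_comm hc, mul_inv_cancel_right, mul_inv_cancel]; exact one_mem W)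
  have htriv := F.trivial_mod S.le S.invn S.invT S.cm h4
  obtain ⟨x₁, hx₁, hx₁W⟩ : ∃ x ∈ X, x ∉ W := by
    by_contra h
    push Not at h
    rw [relIndex_eq_one.2 h] at h4
    omega
  have hq2 : ∀ x ∈ X, x ∉ W → x * x = z := fun x hx hxW =>
    (hall _ (S.sq x hx)).resolve_left fun e => hxW (hinv x hx e)
  -- a `n`-invariant intermediate subgroup is everything
  have hfull : ∀ M : Subgroup G, M ≤ X → W ≤ M → (∀ x ∈ M, n * x * n⁻¹ ∈ M) → ∀ m ∈ M, m ∉ W → X ≤ M := by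
    intro M hMX hWM hMn m hm hmW
    have hne2 := F.relIndex_ne_two hMX S.invn hMn S.cm
    have hmul := relIndex_mul_relIndex W M X hWM hMX
    rw [h4] at hmul
    have h1 : W.relIndex M ≠ 1 := fun e => hmW (relIndex_eq_one.1 e hm)
    obtain ⟨j, hj, hjM⟩ := (Nat.dvd_prime_pow Nat.prime_two).1
      (show W.relIndex M ∣ 2 ^ 2 from Dvd.intro _ hmul)
    rw [hjM] at hmul h1 hne2
    have : M.relIndex X = 1 := by interval_cases j <;> omega
    exact relIndex_eq_one.1 this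
  have hdiff : n * x₁ * n⁻¹ * x₁⁻¹ ∈ X ∧ n * x₁ * n⁻¹ * x₁⁻¹ ∉ W :=
    ⟨mul_mem (F.twisted_n hx₁) (inv_mem hx₁), fun h => hx₁W (F.mem_of_fix_mod S.invn S.cm hx₁ h)⟩
  have hcentral : ∀ c ∈ C, ∀ x ∈ X, c * x = x * c := by
    intro c hc
    have hle : X ≤ centralizer ({c} : Set G) ⊓ X := by
      refine hfull _ inf_le_right (fun w hw => ⟨mem_centralizer_singleton_iff.2 (hWc c hc.1 w hw).symm, S.le hw⟩)
        (fun x hx => ⟨?_, F.twisted_n hx.2⟩) _ ⟨?_, hdiff.1⟩ hdiff.2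
      · have h : c * x * c⁻¹ = x := mul_inv_eq_iff_eq_mul.2 (mem_centralizer_singleton_iff.1 hx.1).symm
        refine mem_centralizer_singleton_iff.2 (mul_inv_eq_iff_eq_mul.1 ?_).symm
        rw [F.fix_conj hc, h]
      · refine mem_centralizer_singleton_iff.2 (mul_inv_eq_iff_eq_mul.1 ?_).symm
        have hw := htriv c hc x₁ hx₁
        set w := c * x₁ * c⁻¹ * x₁⁻¹ with hwdef
        calc c * (n * x₁ * n⁻¹ * x₁⁻¹) * c⁻¹ = (c * (n * x₁ * n⁻¹) * c⁻¹) * (c * x₁ * c⁻¹)⁻¹ := by group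
          _ = (n * (w * x₁) * n⁻¹) * (w * x₁)⁻¹ := by rw [F.fix_conj hc]; simp only [hwdef]; group
          _ = (n * w * n⁻¹) * ((n * x₁ * n⁻¹ * x₁⁻¹) * w⁻¹) := by group
          _ = n * x₁ * n⁻¹ * x₁⁻¹ := by
            rw [hWn w hw, S.central _ (inv_mem hw) _ hdiff.1, mul_inv_cancel_left]
    exact fun x hx => (mem_centralizer_singleton_iff.1 (hle hx).1).symm
  have hZ : ∀ q ∈ X, (∀ x ∈ X, q * x = x * q) → q ∈ W := by
    intro q hq hqc
    by_contra hqW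
    have hle : X ≤ centralizer (X : Set G) ⊓ X := by
      refine hfull _ inf_le_right (fun w hw => ⟨mem_centralizer_iff.2 fun x hx => S.central w hw x hx, S.le hw⟩)
        (fun x hx => ⟨mem_centralizer_iff.2 fun y hy => ?_, F.twisted_n hx.2⟩) q
        ⟨mem_centralizer_iff.2 fun x hx => (hqc x hx).symm, hq⟩ hqW
      have hy' : n⁻¹ * y * n ∈ X := (mem_normalizer_iff''.1 F.mem_normalizer_twisted y).1 hy
      calc y * (n * x * n⁻¹) = n * ((n⁻¹ * y * n) * x) * n⁻¹ := by group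
        _ = n * (x * (n⁻¹ * y * n)) * n⁻¹ := by rw [mem_centralizer_iff.1 hx.1 _ hy']
        _ = n * x * n⁻¹ * y := by group
    set x₂ := n * x₁ * n⁻¹ with hx₂
    have hx₂W : x₂ ∉ W := fun h => hx₁W (F.mem_of_image S.invn hx₁ h)
    have hcm : x₂ * x₁⁻¹ = x₁⁻¹ * x₂ :=
      mem_centralizer_iff.1 (hle (inv_mem hx₁)).1 x₂ (F.twisted_n hx₁)
    refine hdiff.2 (hinv _ hdiff.1 ?_)
    rw [(show Commute x₁⁻¹ x₂ from hcm.symm).mul_mul_mul_comm, hq2 x₂ (F.twisted_n hx₁) hx₂W, ← mul_inv_rev,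
      hq2 x₁ hx₁ hx₁W, mul_inv_cancel]
  have hsqC : ∀ t ∈ (T : Subgroup G), t * t ∈ C := by
    intro t ht
    obtain ⟨x, hx, c, hc, rfl⟩ := F.decomp ht
    rw [(show Commute c x from hcentral c hc x hx).mul_mul_mul_comm]
    exact mul_mem (hWC (S.sq x hx)) (mul_mem hc hc)
  have hroot : ∀ u ∈ (T : Subgroup G), ∃ y ∈ X, y * u = u * y ∧ y * y = z := by
    intro u hu
    obtain ⟨x, hx, c, hc, rfl⟩ := F.decomp hu
    by_cases hxW : x ∈ W
    · refine ⟨x₁, hx₁, ?_, hq2 x₁ hx₁ hx₁W⟩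
      rw [← mul_assoc, S.central x hxW x₁ hx₁, mul_assoc, ← hcentral c hc x₁ hx₁, mul_assoc]
    · refine ⟨x, hx, ?_, hq2 x hx hxW⟩
      rw [mul_assoc x c x, hcentral c hc x hx]
  have hstep : ∀ u ∈ (T : Subgroup G), u ≠ z → ∀ g₀ : G, g₀ * u * g₀⁻¹ = z →
      ∃ g : G, g * z * g⁻¹ ∈ C ∧ g * z * g⁻¹ ≠ z ∧
        ∀ y ∈ (T : Subgroup G), y * u = u * y → g * y * g⁻¹ ∈ (T : Subgroup G) := by
    intro u hu huz g₀ hg₀
    obtain ⟨g, hg, hgT⟩ := exists_conj_into T hzc hg₀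
    obtain ⟨y, hy, hyu, hyz⟩ := hroot u hu
    refine ⟨g, ?_, fun e => huz (mul_left_cancel (mul_right_cancel (hg.trans e.symm))), hgT⟩
    have h := hsqC _ (hgT y (hXT hy) hyu)
    rwa [show g * y * g⁻¹ * (g * y * g⁻¹) = g * (y * y) * g⁻¹ by group, hyz] at h
  obtain ⟨g₀, hu₀, hu₀z⟩ := exists_other_conj hna T hz2
  obtain ⟨g, hgC, hgz, -⟩ := hstep _ hu₀ hu₀z g₀⁻¹ (by group)
  obtain ⟨h, he'C, he'z, hhT⟩ := hstep _ hgC.1 hgz g⁻¹ (by group)
  set e' := h * z * h⁻¹ with he'def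
  have he'T : e' ∈ (T : Subgroup G) := he'C.1
  have he'1 : e' ≠ 1 := fun e => hz1 (conj_eq_one_iff.1 e)
  have he'2 : e' * e' = 1 := by
    rw [he'def, show h * z * h⁻¹ * (h * z * h⁻¹) = h * (z * z) * h⁻¹ by group, S.exp2 z hz, mul_one,
      mul_inv_cancel]
  have he'X : e' ∉ X := fun hX => (hall _ (hCX _ he'C hX)).elim he'1 he'z
  have hQX : QuatData X z := ⟨hX8, S.le hz, hz1, S.exp2 z hz, fun r hr => hall _ (S.sq r hr),
    fun r hr e => hall _ (hinv r hr e)⟩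
  set R := X.map (MulAut.conj h).toMonoidHom
  have hQR : QuatData R e' := hQX.conj h
  have hRT : R ≤ (T : Subgroup G) := by
    rintro _ ⟨x, hx, rfl⟩
    exact hhT x (hXT hx) (hcentral _ hgC x hx).symm
  -- the quotient by the twisted part
  haveI : (X.subgroupOf (T : Subgroup G)).Normal := ⟨fun a ha t => F.twisted_conj t.2 ha⟩
  set q := QuotientGroup.mk' (X.subgroupOf (T : Subgroup G)) with hqdef
  have hq1 : ∀ {a : (T : Subgroup G)}, q a = 1 ↔ (a : G) ∈ X := fun {a} =>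
    (QuotientGroup.eq_one_iff a).trans mem_subgroupOf
  have hpK : IsPGroup 2 ((T : Subgroup G) ⧸ X.subgroupOf (T : Subgroup G)) := T.2.to_quotient _
  have hrank : RankTwo ((T : Subgroup G) ⧸ X.subgroupOf (T : Subgroup G)) := by
    intro U N hsq
    set U₀ := (U.comap q).map (T : Subgroup G).subtype with hU₀
    set N₀ := ((N ⊓ U).comap q).map (T : Subgroup G).subtype with hN₀
    have hle : N₀ ≤ U₀ := map_mono (comap_mono inf_le_right)
    have hXN : X ≤ N₀ := fun x hx => ⟨⟨x, hXT hx⟩, by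
      rw [SetLike.mem_coe, mem_comap, hq1.2 (show ((⟨x, hXT hx⟩ : (T : Subgroup G)) : G) ∈ X from hx)]
      exact one_mem _, rfl⟩
    have hidx : N₀.relIndex U₀ = N.relIndex U := by
      rw [hN₀, hU₀, relIndex_map_map_of_injective _ _ (T : Subgroup G).subtype_injective, relIndex_comap,
        map_comap_eq_self_of_surjective (QuotientGroup.mk'_surjective _), inf_relIndex_right]
    have hsq' : ∀ a ∈ U₀, a * a ∈ N₀ ⊓ C := by
      rintro _ ⟨a, ha, rfl⟩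
      refine ⟨⟨a * a, ⟨?_, ?_⟩, rfl⟩, hsqC _ a.2⟩
      · rw [map_mul]; exact hsq _ ha
      · rw [map_mul]; exact mul_mem ha ha
    have hsec := F.sect U₀ (N₀ ⊓ C) (map_subtype_le _) hsq'
    rw [← relIndex_mul_relIndex (N₀ ⊓ C) N₀ U₀ inf_le_left hle, hidx, inf_relIndex_left] at hsec
    have h5 : 4 ≤ C.relIndex N₀ := by
      refine le_trans ?_ (relIndex_le_of_le_right hXN index_ne_zero_of_finite)
      have e : C ⊓ X = W := le_antisymm (fun c hc => hCX c hc.1 hc.2) (le_inf hWC S.le)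
      rw [← inf_relIndex_right, e, h4]
    have h6 : 4 * N.relIndex U ≤ C.relIndex N₀ * N.relIndex U := Nat.mul_le_mul_right _ h5
    omega
  have himage : ∀ (R : Subgroup G) (r₀ : G) (hR : R ≤ (T : Subgroup G)), QuatData R r₀ → r₀ ∉ X →
      Function.Injective (q.comp (inclusion hR)) := by
    intro R r₀ hR Q hr₀
    refine (injective_iff_map_eq_one _).2 fun r hr => Subtype.ext (Q.not_mem_of_inv hr₀ r r.2 ?_)
    exact hq1.1 hr
  have hinjR := himage R e' hRT hQR he'X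
  have hQK := hQR.image _ hinjR
  obtain ⟨-, _, ⟨⟨r, hr⟩, rfl⟩, hd2, hdk⟩ := hQK.exists_normal_four hpK hrank
  have hr2 : r * r = e' := by
    rw [← map_mul] at hd2
    exact congrArg Subtype.val (hinjR hd2)
  obtain ⟨x₀, hx₀, c₀, hc₀, hxc⟩ := F.decomp (hRT hr)
  have hc₀x : Commute c₀ x₀ := hcentral c₀ hc₀ x₀ hx₀
  have he'eq : e' = (x₀ * x₀) * (c₀ * c₀) := by rw [← hr2, ← hxc, hc₀x.mul_mul_mul_comm]
  have hw₀ : x₀ * x₀ ∈ W := S.sq x₀ hx₀
  have hc₀4 : c₀ * c₀ * (c₀ * c₀) = 1 := by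
    have e : c₀ * c₀ = (x₀ * x₀) * e' := by rw [he'eq, ← mul_assoc (x₀ * x₀), S.exp2 _ hw₀, one_mul]
    rw [e, (show Commute e' (x₀ * x₀) from hWc e' he'T _ hw₀).mul_mul_mul_comm, S.exp2 _ hw₀, he'2, one_mul]
  have he'k : ∀ k ∈ C, k * e' = e' * k := by
    intro k hk
    refine mul_inv_eq_iff_eq_mul.1 ?_
    have hkx : k * (x₀ * x₀) * k⁻¹ = x₀ * x₀ := by rw [hWc k hk.1 _ hw₀, mul_inv_cancel_right]
    rw [he'eq, show k * (x₀ * x₀ * (c₀ * c₀)) * k⁻¹ =
      (k * (x₀ * x₀) * k⁻¹) * ((k * c₀ * k⁻¹) * (k * c₀ * k⁻¹)) by group, hkx]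
    congr 1
    have hkc : k * c₀ * k⁻¹ ∈ C := mul_mem (mul_mem hk hc₀) (inv_mem hk)
    have hkr : k * r * k⁻¹ = x₀ * (k * c₀ * k⁻¹) := by
      calc k * r * k⁻¹ = (k * x₀ * k⁻¹) * (k * c₀ * k⁻¹) := by rw [← hxc]; group
        _ = _ := by rw [hcentral k hk x₀ hx₀, mul_inv_cancel_right]
    set kk : (T : Subgroup G) := ⟨k, hk.1⟩
    set rr : (T : Subgroup G) := ⟨r, hRT hr⟩
    rcases hdk (q kk) with e | e
    · have hX : k * r * k⁻¹ * r⁻¹ ∈ X := (hq1 (a := kk * rr * kk⁻¹ * rr⁻¹)).1 (by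
        rw [map_mul, map_mul, map_mul, map_inv, map_inv]
        exact mul_inv_eq_one.2 e)
      rw [hkr, ← hxc, show x₀ * (k * c₀ * k⁻¹) * (x₀ * c₀)⁻¹ = x₀ * ((k * c₀ * k⁻¹) * c₀⁻¹) * x₀⁻¹ by group,
        ← hcentral _ (mul_mem hkc (inv_mem hc₀)) x₀ hx₀, mul_inv_cancel_right] at hX
      have hw := hCX _ (mul_mem hkc (inv_mem hc₀)) hX
      set w := k * c₀ * k⁻¹ * c₀⁻¹ with hwdef
      rw [show k * c₀ * k⁻¹ = w * c₀ by simp only [hwdef]; group,
        (show Commute c₀ w from hWc c₀ hc₀.1 w hw).mul_mul_mul_comm, S.exp2 w hw, one_mul]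
    · have hX : k * r * k⁻¹ * r ∈ X := (hq1 (a := kk * rr * kk⁻¹ * rr)).1 (by
        rw [map_mul, map_mul, map_mul, map_inv]
        exact mul_eq_one_iff_eq_inv.2 e)
      rw [hkr, ← hxc, show x₀ * (k * c₀ * k⁻¹) * (x₀ * c₀) = x₀ * ((k * c₀ * k⁻¹) * x₀) * c₀ by group,
        hcentral _ hkc x₀ hx₀, ← mul_assoc x₀ x₀, mul_assoc (x₀ * x₀)] at hX
      have hX' : k * c₀ * k⁻¹ * c₀ ∈ X := by
        have := mul_mem (inv_mem (mul_mem hx₀ hx₀)) hX
        rwa [inv_mul_cancel_left] at this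
      have hw := hCX _ (mul_mem hkc hc₀) hX'
      set w := k * c₀ * k⁻¹ * c₀ with hwdef
      rw [show k * c₀ * k⁻¹ = w * c₀⁻¹ by simp only [hwdef]; group,
        (show Commute c₀⁻¹ w from hWc _ ((T : Subgroup G).inv_mem hc₀.1) w hw).mul_mul_mul_comm, S.exp2 w hw,
        one_mul, ← mul_inv_rev]
      exact inv_eq_of_mul_eq_one_right hc₀4
  have he'c : ∀ t ∈ (T : Subgroup G), t * e' = e' * t := by
    intro t ht
    obtain ⟨x, hx, c, hc, rfl⟩ := F.decomp ht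
    exact ((show Commute x e' from (hcentral e' he'C x hx).symm).mul_left (he'k c hc)).eq
  have hinvol : ∀ v ∈ (T : Subgroup G), v * v = 1 → (∀ t ∈ (T : Subgroup G), t * v = v * t) →
      v = 1 ∨ v = z ∨ v = e' ∨ v = z * e' := by
    intro v hv hv2 hvc
    obtain ⟨x, hx, c, hc, hxv⟩ := F.decomp hv
    have hxW : x ∈ W := hZ x hx fun y hy => by
      have h1 := hvc y (hXT hy)
      rw [← hxv, mul_assoc x c y, hcentral c hc y hy, ← mul_assoc, ← mul_assoc] at h1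
      exact (mul_right_cancel h1).symm
    have hvC : v ∈ C := hxv ▸ mul_mem (hWC hxW) hc
    have hcen := hQK.centralizer_le hpK hrank (k := q ⟨v, hv⟩) (by
      rintro _ ⟨s, rfl⟩
      show q _ * q _ = q _ * q _
      rw [← map_mul, ← map_mul]
      exact congrArg q (Subtype.ext (hvc _ (hRT s.2)).symm))
    rcases hQK.mem_zp.1 hcen with e | e
    · rcases hall v (hCX v hvC (hq1.1 e)) with e1 | e1
      exacts [Or.inl e1, Or.inr (Or.inl e1)]
    · have hX : v * e'⁻¹ ∈ X := (hq1 (a := ⟨v, hv⟩ * (⟨e', he'T⟩ : (T : Subgroup G))⁻¹)).1 (by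
        rw [map_mul, map_inv]
        exact mul_inv_eq_one.2 e)
      rcases hall _ (hCX _ (mul_mem hvC (inv_mem he'C)) hX) with e1 | e1
      · exact Or.inr (Or.inr (Or.inl (mul_inv_eq_one.1 e1)))
      · exact Or.inr (Or.inr (Or.inr (mul_inv_eq_iff_eq_mul.1 e1)))
  -- the normalizer permutes the three central involutions
  obtain ⟨ψ, hψN, hψz⟩ := Fusion.exists_normalizer_conj_eq_of_central T (x := z)
    (fun t ht => mem_centralizer_singleton_iff.2 (hzc t ht)) h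
    (fun t ht => mem_centralizer_singleton_iff.2 (he'c t ht))
  have hψz' : ψ * z * ψ⁻¹ = e' := hψz
  have hψT : ∀ t ∈ (T : Subgroup G), ψ⁻¹ * t * ψ ∈ (T : Subgroup G) := fun t ht =>
    (mem_normalizer_iff''.1 hψN t).1 ht
  have hψe : ψ * e' * ψ⁻¹ = z * e' := by
    have h2' : ψ * e' * ψ⁻¹ * (ψ * e' * ψ⁻¹) = 1 := by
      rw [show ψ * e' * ψ⁻¹ * (ψ * e' * ψ⁻¹) = ψ * (e' * e') * ψ⁻¹ by group, he'2, mul_one, mul_inv_cancel]
    rcases hinvol _ ((mem_normalizer_iff.1 hψN e').1 he'T) h2' (fun t ht => by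
        calc t * (ψ * e' * ψ⁻¹) = ψ * ((ψ⁻¹ * t * ψ) * e') * ψ⁻¹ := by group
          _ = ψ * (e' * (ψ⁻¹ * t * ψ)) * ψ⁻¹ := by rw [he'c _ (hψT t ht)]
          _ = _ := by group) with e | e | e | e
    · exact absurd (conj_eq_one_iff.1 e) he'1
    · exfalso
      obtain ⟨a, i, hai⟩ := exists_odd_pow ψ
      have hb := mem_sylow_of_normalizes T (pow_mem hψN _) hai
      have hsq : Commute (ψ * ψ) z := by
        show ψ * ψ * z = z * (ψ * ψ)
        refine mul_inv_eq_iff_eq_mul.1 ?_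
        rw [show ψ * ψ * z * (ψ * ψ)⁻¹ = ψ * (ψ * z * ψ⁻¹) * ψ⁻¹ by group, hψz', e]
      have h5 : ψ ^ (2 * a + 1) * z * (ψ ^ (2 * a + 1))⁻¹ = e' := by
        rw [pow_succ', pow_mul, pow_two, show ψ * (ψ * ψ) ^ a * z * (ψ * (ψ * ψ) ^ a)⁻¹ =
          ψ * ((ψ * ψ) ^ a * z * ((ψ * ψ) ^ a)⁻¹) * ψ⁻¹ by group, (hsq.pow_left a).eq, mul_inv_cancel_right, hψz']
      rw [hzc _ hb, mul_inv_cancel_right] at h5
      exact he'z h5.symm
    · exact absurd (mul_left_cancel (mul_right_cancel (e.trans hψz'.symm))) he'z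
    · exact e
  -- two quaternion groups commuting
  have hconjT : ∀ χ ∈ normalizer ((T : Subgroup G) : Set G), ∀ t ∈ (T : Subgroup G),
      ∀ r ∈ X.map (MulAut.conj χ).toMonoidHom, r ∈ (T : Subgroup G) ∧
        t * r * t⁻¹ ∈ X.map (MulAut.conj χ).toMonoidHom := by
    intro χ hχ t ht
    rintro _ ⟨x, hx, rfl⟩
    refine ⟨(mem_normalizer_iff.1 hχ x).1 (hXT hx),
      ⟨_, F.twisted_conj ((mem_normalizer_iff''.1 hχ t).1 ht) hx, ?_⟩⟩
    show χ * (χ⁻¹ * t * χ * x * (χ⁻¹ * t * χ)⁻¹) * χ⁻¹ = t * (χ * x * χ⁻¹) * t⁻¹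
    group
  set Q₁ := X.map (MulAut.conj ψ).toMonoidHom with hQ₁def
  set Q₂ := X.map (MulAut.conj (ψ * ψ)).toMonoidHom with hQ₂def
  have hQ₁ : QuatData Q₁ e' := hψz' ▸ hQX.conj ψ
  have hψψ : ψ * ψ * z * (ψ * ψ)⁻¹ = z * e' := by
    rw [show ψ * ψ * z * (ψ * ψ)⁻¹ = ψ * (ψ * z * ψ⁻¹) * ψ⁻¹ by group, hψz', hψe]
  have hQ₂ : QuatData Q₂ (z * e') := hψψ ▸ hQX.conj (ψ * ψ)
  have hψψN := mul_mem hψN hψN
  have hQ₁T : Q₁ ≤ (T : Subgroup G) := fun r hr => (hconjT ψ hψN 1 (one_mem _) r hr).1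
  have hQ₂T : Q₂ ≤ (T : Subgroup G) := fun r hr => (hconjT _ hψψN 1 (one_mem _) r hr).1
  have hze'X : z * e' ∉ X := fun hX => he'X (by simpa using mul_mem (inv_mem (S.le hz)) hX)
  have hcomm : ∀ a ∈ Q₁, ∀ b ∈ Q₂, a * b = b * a := by
    intro a ha b hb
    have h1 : a * b * a⁻¹ * b⁻¹ ∈ Q₁ := by
      rw [show a * b * a⁻¹ * b⁻¹ = a * (b * a⁻¹ * b⁻¹) by group]
      exact mul_mem ha (hconjT ψ hψN b (hQ₂T hb) _ (inv_mem ha)).2
    have h2' : a * b * a⁻¹ * b⁻¹ ∈ Q₂ := mul_mem (hconjT _ hψψN a (hQ₁T ha) b hb).2 (inv_mem hb)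
    refine mul_inv_eq_iff_eq_mul.1 (mul_inv_eq_one.1 ?_)
    set d := a * b * a⁻¹ * b⁻¹
    have hne : e' ≠ z * e' := fun e => hz1 (right_eq_mul.1 e)
    have hd2 : d * d = 1 := by
      rcases hQ₁.sq d h1 with e | e
      · exact e
      · exact (hQ₂.sq d h2').resolve_right fun e2 => hne (e.symm.trans e2)
    rcases hQ₁.inv d h1 hd2 with e | e
    · exact e
    · exact (hQ₂.inv d h2' hd2).resolve_right fun e2 => hne (e.symm.trans e2)
  have hK₁ := hQ₁.image _ (himage Q₁ e' hQ₁T hQ₁ he'X)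
  have hinj₂ := himage Q₂ _ hQ₂T hQ₂ hze'X
  have hle : (q.comp (inclusion hQ₂T)).range ≤ zpowers (q.comp (inclusion hQ₁T) ⟨e', hQ₁.mem⟩) := by
    rintro _ ⟨b, rfl⟩
    refine hK₁.centralizer_le hpK hrank ?_
    rintro _ ⟨a, rfl⟩
    show q _ * q _ = q _ * q _
    rw [← map_mul, ← map_mul]
    exact congrArg q (Subtype.ext (hcomm _ a.2 _ b.2).symm)
  have := Subgroup.card_le_of_le hle
  rw [(hQ₂.image _ hinj₂).card, hK₁.card_zp] at this
  omega

end CfsgLib.NormalRankTwo
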