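import Cfsg.Agent.Lib.NormalRankTwo.Frame

/-!
# An elementary quotient of order sixteen

If `[T, n]` has a small central layer with quotient of order sixteen then `T` has order 64 or 128.
-/

set_option autoImplicit false
set_option linter.unusedSectionVars false
set_option linter.style.haveILetI false

open Subgroup

namespace CfsgLib.NormalRankTwo

open CfsgLib.CFun.NoEight (four_cases)

universe u

variable {G : Type u} [Group G] [Finite G]

theorem relIndex_le_two {H K : Subgroup G} (h : ∀ a ∈ K, ∀ b ∈ K, a ∉ H → b ∉ H → a * b ∈ H) :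
    H.relIndex K ≤ 2 := by
  by_cases hK : K ≤ H
  · rw [relIndex_eq_one.2 hK]; norm_num
  obtain ⟨a, ha, haH⟩ := SetLike.not_le_iff_exists.1 hK
  refine le_of_eq (index_eq_two_iff.2 ⟨⟨a, ha⟩, fun b => ?_⟩)
  simp only [mem_subgroupOf, coe_mul]
  by_cases hb : (b : G) ∈ H
  · exact Or.inr ⟨hb, fun h' => haH (by simpa using mul_mem (inv_mem hb) h')⟩
  · exact Or.inl ⟨h b b.2 a ha hb haH, hb⟩

theorem card_two_elems {W : Subgroup G} (h : Nat.card W = 2) :
    ∃ z ∈ W, z ≠ 1 ∧ ∀ w ∈ W, w = 1 ∨ w = z := by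
  obtain ⟨a, b, hab, hu⟩ := Nat.card_eq_two_iff.1 h
  have hall : ∀ w : W, w = a ∨ w = b := fun w => by
    have : w ∈ ({a, b} : Set W) := by rw [hu]; trivial
    exact this
  rcases hall 1 with e | e
  · refine ⟨b, b.2, fun hb => hab ((e.symm).trans (Subtype.ext hb.symm)), fun w hw => ?_⟩
    rcases hall ⟨w, hw⟩ with f | f
    · exact Or.inl (congrArg Subtype.val (f.trans e.symm))
    · exact Or.inr (congrArg Subtype.val f)
  · refine ⟨a, a.2, fun ha => hab ((Subtype.ext ha : a = 1).trans e), fun w hw => ?_⟩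
    rcases hall ⟨w, hw⟩ with f | f
    · exact Or.inr (congrArg Subtype.val f)
    · exact Or.inl (congrArg Subtype.val (f.trans e.symm))

theorem card_eq_two_or_four {T : Sylow 2 G} {W : Subgroup G} (hW : W ≤ (T : Subgroup G))
    (h4 : Nat.card W ≤ 4) (h1 : Nat.card W ≠ 1) : Nat.card W = 2 ∨ Nat.card W = 4 := by
  haveI : Fact (Nat.Prime 2) := ⟨Nat.prime_two⟩
  obtain ⟨d, hd⟩ := IsPGroup.iff_card.1 (T.2.to_le hW)
  rw [hd] at h4 h1 ⊢
  have : d ≤ 2 := (Nat.pow_le_pow_iff_right (a := 2) one_lt_two).1 (h4.trans (by norm_num))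
  interval_cases d <;> simp_all

theorem card_mul_relIndex {W X : Subgroup G} (h : W ≤ X) : Nat.card W * W.relIndex X = Nat.card X := by
  have := relIndex_mul_relIndex ⊥ W X bot_le h
  rwa [relIndex_bot_left, relIndex_bot_left] at this

/-- A twisted part of index one with a layer of order two is impossible. -/
theorem Frame.not_sylow_twisted [IsSimpleGroup G] (hna : ¬ IsMulCommutative G) {T : Sylow 2 G} {n : G}
    {W : Subgroup G} (F : Frame T n) (S : Lay T n W) (h2 : Nat.card W = 2) (hcard : Nat.card (T : Subgroup G) = 32)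
    (hTX : (T : Subgroup G) ≤ twisted T n) : False := by
  obtain ⟨z, hz, hz1, hall⟩ := card_two_elems h2
  have hzc : ∀ t ∈ (T : Subgroup G), t * z = z * t := fun t ht => S.central z hz t (hTX ht)
  have hz2 : orderOf z = 2 := orderOf_eq_prime (by rw [pow_two]; exact S.exp2 z hz) hz1
  obtain ⟨g₀, hu, huz⟩ := exists_other_conj hna T hz2
  set u := g₀ * z * g₀⁻¹ with hu_def
  obtain ⟨g, hg, hgT⟩ := exists_conj_into T hzc (u := u) (g₀ := g₀⁻¹) (by simp only [hu_def]; group)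
  set P := (T : Subgroup G) ⊓ centralizer ({u} : Set G) with hP
  have hmemP : ∀ a ∈ (T : Subgroup G), a * u * a⁻¹ * u⁻¹ = 1 → a ∈ P := fun a ha h =>
    ⟨ha, mem_centralizer_singleton_iff.2 (mul_inv_eq_iff_eq_mul.1 (mul_inv_eq_one.1 h))⟩
  have hidx : P.relIndex (T : Subgroup G) ≤ 2 := by
    refine relIndex_le_two fun a ha b hb haP hbP => hmemP _ (mul_mem ha hb) ?_
    have ea : a * u * a⁻¹ * u⁻¹ = z := (hall _ (S.cm a (hTX ha) u (hTX hu))).resolve_left fun e => haP (hmemP a ha e)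
    have eb : b * u * b⁻¹ * u⁻¹ = z := (hall _ (S.cm b (hTX hb) u (hTX hu))).resolve_left fun e => hbP (hmemP b hb e)
    rw [show a * b * u * (a * b)⁻¹ * u⁻¹ = (a * (b * u * b⁻¹ * u⁻¹) * a⁻¹) * (a * u * a⁻¹ * u⁻¹) by group,
      eb, ea, hzc a ha, mul_inv_cancel_right, S.exp2 z hz]
  have hWP : W ≤ P := fun w hw => hmemP w (F.twisted_le (S.le hw)) (by
    rw [← S.central w hw u (hTX hu), mul_inv_cancel_right, mul_inv_cancel])
  have hPn : ∀ t ∈ (T : Subgroup G), ∀ a ∈ P, t * a * t⁻¹ ∈ P := fun t ht a ha => by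
    rw [show t * a * t⁻¹ = (t * a * t⁻¹ * a⁻¹) * a by group]
    exact mul_mem (hWP (S.cm t (hTX ht) a (hTX ha.1))) ha
  obtain ⟨y, hy, hy2⟩ : ∃ y ∈ P, y * y ≠ 1 := by
    by_contra h
    push Not at h
    have h4 := F.small P inf_le_left hPn h
    have := card_mul_relIndex (W := P) (X := (T : Subgroup G)) inf_le_left
    have h8 : Nat.card P * P.relIndex (T : Subgroup G) ≤ 4 * 2 := Nat.mul_le_mul h4 hidx
    omega
  have hyz : y * y = z := (hall _ (S.sq y (hTX hy.1))).resolve_left hy2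
  have hgy : g * y * g⁻¹ ∈ (T : Subgroup G) := hgT y hy.1 (mem_centralizer_singleton_iff.1 hy.2)
  have hsq := S.sq _ (hTX hgy)
  rw [show g * y * g⁻¹ * (g * y * g⁻¹) = g * (y * y) * g⁻¹ by group, hyz] at hsq
  rcases hall _ hsq with e | e
  · exact hz1 (conj_eq_one_iff.1 e)
  · exact huz (mul_left_cancel (mul_right_cancel (hg.trans e.symm)))

/-- The fixed part acts through at most two elements. -/
theorem Frame.fix_mul_mem {T : Sylow 2 G} {n : G} {W : Subgroup G} (F : Frame T n) (S : Lay T n W)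
    (h16 : W.relIndex (twisted T n) = 16) (hW : Nat.card W = 2 ∨ Nat.card W = 4) :
    ∀ c ∈ fixPart T n, ∀ d ∈ fixPart T n, c ∉ W → d ∉ W → c * d ∈ W := by
  classical
  set X := twisted T n with hX
  set C := fixPart T n with hC
  have hXfix : ∀ k ∈ C, k ∈ X → k ∈ W := fun k hk hkX => F.mem_of_fix_mod S.invn S.cm hkX (by
    rw [F.fix_comm hk, mul_inv_cancel_right, mul_inv_cancel]; exact one_mem W)
  -- the kernel
  have hker : ∀ j : ℕ, ∀ k ∈ C, (∀ x ∈ X, k * x * k⁻¹ * x⁻¹ ∈ W) → k ^ 2 ^ j = 1 → k ∈ W := by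
    intro j
    induction j with
    | zero => intro k _ _ h; rw [pow_zero, pow_one] at h; rw [h]; exact one_mem W
    | succ j ih =>
      intro k hk htriv hpow
      have hkk : k * k ∈ W := ih _ (mul_mem hk hk) (fun x hx => by
        rw [show k * k * x * (k * k)⁻¹ * x⁻¹ = (k * (k * x * k⁻¹ * x⁻¹) * k⁻¹) * (k * x * k⁻¹ * x⁻¹) by group]
        exact mul_mem (S.invT k hk.1 _ (htriv x hx)) (htriv x hx))
        (by rw [← pow_two, ← pow_mul, ← pow_succ']; exact hpow)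
      have hkn : zpowers k ≤ normalizer (X : Set G) :=
        zpowers_le.2 (normalizer_commutator_ge_left (T : Subgroup G) (zpowers n) hk.1)
      set R := X ⊔ zpowers k
      have hsqR : ∀ a ∈ R, a * a ∈ W := by
        intro a ha
        obtain ⟨x, hx, y, hy, rfl⟩ := Coprime.mem_sup_exists hkn ha
        obtain ⟨i, rfl⟩ := mem_zpowers_iff.1 hy
        have heven : ∀ l : ℤ, k ^ (2 * l) ∈ W := fun l => by
          rw [zpow_mul, zpow_two]; exact zpow_mem hkk l
        rcases Int.even_or_odd i with ⟨l, rfl⟩ | ⟨l, rfl⟩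
        · rw [← two_mul]
          exact S.sq _ (mul_mem hx (S.le (heven l)))
        · rw [zpow_add, zpow_one, ← mul_assoc x (k ^ (2 * l)) k]
          set x' := x * k ^ (2 * l)
          have hx' : x' ∈ X := mul_mem hx (S.le (heven l))
          have hw := htriv x' hx'
          rw [show x' * k * (x' * k) = (x' * (k * x' * k⁻¹ * x'⁻¹)) * x' * (k * k) by group,
            S.central _ hw x' hx', mul_assoc _ x' x']
          exact mul_mem (mul_mem hw (S.sq x' hx')) hkk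
      have h := F.sect R W (sup_le F.twisted_le (zpowers_le.2 hk.1)) hsqR
      rw [← relIndex_mul_relIndex W X R S.le le_sup_left, h16] at h
      have h0 : X.relIndex R ≠ 0 := index_ne_zero_of_finite
      have h1 : X.relIndex R = 1 := by omega
      exact hXfix k hk (relIndex_eq_one.1 h1 (mem_sup_right (mem_zpowers k)))
  have hker' : ∀ k ∈ C, (∀ x ∈ X, k * x * k⁻¹ * x⁻¹ ∈ W) → k ∈ W := fun k hk h => by
    obtain ⟨j, hj⟩ := T.2 ⟨k, hk.1⟩
    exact hker j k hk h (congrArg Subtype.val hj)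
  intro c₁ hc₁ d₁ hd₁ hc₁W hd₁W
  by_contra hcd
  -- the fixed layer
  set L := fixMod X W (C : Set G) (fun c hc x hx => F.twisted_conj hc.1 hx)
    (fun x hx y hy => S.invT x (F.twisted_le hx) y hy) with hL
  have memL : ∀ {x : G}, x ∈ L ↔ x ∈ X ∧ ∀ c ∈ C, c * x * c⁻¹ * x⁻¹ ∈ W := fun {x} => Iff.rfl
  have hWL : W ≤ L := fun w hw => memL.2 ⟨S.le hw, fun c hc => mul_mem (S.invT c hc.1 w hw) (inv_mem hw)⟩
  have hLX : L ≤ X := fun x hx => (memL.1 hx).1
  have hLn : ∀ x ∈ L, n * x * n⁻¹ ∈ L := fun x hx => memL.2 ⟨F.twisted_n (memL.1 hx).1, fun c hc => by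
    rw [F.fix_conj hc, show n * (c * x * c⁻¹) * n⁻¹ * (n * x * n⁻¹)⁻¹ = n * (c * x * c⁻¹ * x⁻¹) * n⁻¹ by group]
    exact S.invn _ ((memL.1 hx).2 c hc)⟩
  have hLne : L ≠ X := fun e => hc₁W (hker' c₁ hc₁ fun x hx => (memL.1 (e ▸ hx : x ∈ L)).2 c₁ hc₁)
  have habL : ∀ x ∈ X, ∀ y ∈ X, x * y * x⁻¹ * y⁻¹ ∈ L := fun x hx y hy => hWL (S.cm x hx y hy)
  have hrel : W.relIndex L = 4 ∧ L.relIndex X = 4 := by
    have hmul := relIndex_mul_relIndex W L X hWL hLX
    rw [h16] at hmul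
    have h2 : L.relIndex X ≠ 2 := F.relIndex_ne_two le_rfl hLn (fun x hx => F.twisted_n hx) habL
    have h2' : W.relIndex L ≠ 2 := F.relIndex_ne_two hLX S.invn hLn S.cm
    have h1 : L.relIndex X ≠ 1 := fun e => hLne (le_antisymm hLX (relIndex_eq_one.1 e))
    have h1' : W.relIndex L ≠ 1 := by
      intro e
      obtain ⟨x, hx, hxW, hxc⟩ := F.exists_central_mod S.invT F.twisted_le
        (fun t ht y hy => F.twisted_conj ht hy) (fun h => by rw [relIndex_eq_one.2 h] at h16; omega)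
      exact hxW (relIndex_eq_one.1 e (memL.2 ⟨hx, fun c hc => hxc c hc.1⟩))
    obtain ⟨j, hj, hjL⟩ := (Nat.dvd_prime_pow Nat.prime_two).1
      (show W.relIndex L ∣ 2 ^ 4 from Dvd.intro _ hmul)
    rw [hjL] at hmul h2' h1' ⊢
    interval_cases j <;> omega
  have hLT : ∀ t ∈ (T : Subgroup G), ∀ l ∈ L, t * l * t⁻¹ ∈ L := by
    intro t ht l hl
    obtain ⟨x, hx, c, hc, rfl⟩ := F.decomp ht
    have h1 : c * l * c⁻¹ ∈ L := by
      rw [show c * l * c⁻¹ = (c * l * c⁻¹ * l⁻¹) * l by group]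
      exact mul_mem (hWL ((memL.1 hl).2 c hc)) hl
    rw [show x * c * l * (x * c)⁻¹ =
      (x * (c * l * c⁻¹) * x⁻¹ * (c * l * c⁻¹)⁻¹) * (c * l * c⁻¹) by group]
    exact mul_mem (habL x hx _ (hLX h1)) h1
  have hcL := F.trivial_mod hLX hLn hLT habL hrel.2
  obtain ⟨l₀, hl₀, hl₀2⟩ : ∃ l ∈ L, l * l ≠ 1 := by
    by_contra h
    push Not at h
    have h4 := F.small L (hLX.trans F.twisted_le) hLT h
    have := card_mul_relIndex hWL
    rw [hrel.1] at this
    omega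
  -- commutative part
  have hWW : ∀ a ∈ W, ∀ b ∈ W, a * b = b * a := fun a ha b hb => S.central b hb a (S.le ha)
  have hWinv : ∀ a ∈ W, a⁻¹ = a := fun a ha => inv_eq_of_mul_eq_one_right (S.exp2 a ha)
  -- commutation with `v`
  have surj : ∀ v ∈ X, v ∉ L → ∀ l ∈ L, ∃ c ∈ C, c * v * c⁻¹ * v⁻¹ * l⁻¹ ∈ W := by
    intro v hv hvL
    have hinj : ∀ c ∈ C, c * v * c⁻¹ * v⁻¹ ∈ W → c ∈ W := by
      intro c hc hcv
      set K := fixMod X W ({c} : Set G) (fun a ha x hx => by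
        rw [Set.mem_singleton_iff] at ha
        rw [ha]; exact F.twisted_conj hc.1 hx) (fun x hx y hy => S.invT x (F.twisted_le hx) y hy)
      have memK : ∀ {x : G}, x ∈ K ↔ x ∈ X ∧ ∀ a ∈ ({c} : Set G), a * x * a⁻¹ * x⁻¹ ∈ W := fun {x} => Iff.rfl
      have hLK : L ≤ K := fun x hx => memK.2 ⟨hLX hx, fun a ha => by
        rw [Set.mem_singleton_iff.1 ha]; exact (memL.1 hx).2 c hc⟩
      have hKn : ∀ x ∈ K, n * x * n⁻¹ ∈ K := fun x hx => memK.2 ⟨F.twisted_n (memK.1 hx).1, fun a ha => by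
        rw [Set.mem_singleton_iff.1 ha, F.fix_conj hc,
          show n * (c * x * c⁻¹) * n⁻¹ * (n * x * n⁻¹)⁻¹ = n * (c * x * c⁻¹ * x⁻¹) * n⁻¹ by group]
        exact S.invn _ ((memK.1 hx).2 c rfl)⟩
      have hvK : v ∈ K := memK.2 ⟨hv, fun a ha => by rw [Set.mem_singleton_iff.1 ha]; exact hcv⟩
      have hKX : K ≤ X := fun x hx => (memK.1 hx).1
      have h2 := F.relIndex_ne_two hKX hLn hKn habL
      have hmul := relIndex_mul_relIndex L K X hLK hKX
      rw [hrel.2] at hmul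
      have h1 : L.relIndex K ≠ 1 := fun e => hvL (relIndex_eq_one.1 e hvK)
      obtain ⟨j, hj, hjK⟩ := (Nat.dvd_prime_pow Nat.prime_two).1
        (show L.relIndex K ∣ 2 ^ 2 from Dvd.intro _ hmul)
      rw [hjK] at hmul h1 h2
      have hK1 : K.relIndex X = 1 := by interval_cases j <;> omega
      exact hker' c hc fun x hx => (memK.1 (relIndex_eq_one.1 hK1 hx)).2 c rfl
    have hlc : ∀ c ∈ C, c * v * c⁻¹ * v⁻¹ ∈ L := fun c hc => hcL c hc v hv
    have hcomp : ∀ c ∈ C, ∀ d ∈ C, ∃ w ∈ W,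
        c * d * v * (c * d)⁻¹ * v⁻¹ = w * ((d * v * d⁻¹ * v⁻¹) * (c * v * c⁻¹ * v⁻¹)) := fun c hc d hd =>
      ⟨_, (memL.1 (hlc d hd)).2 c hc, by group⟩
    let Sv : Subgroup G :=
      { carrier := {l | l ∈ L ∧ ∃ c ∈ C, c * v * c⁻¹ * v⁻¹ * l⁻¹ ∈ W}
        one_mem' := ⟨L.one_mem, 1, one_mem C, by simp⟩
        mul_mem' := fun {l m} hl hm => by
          obtain ⟨hl, c, hc, hwc⟩ := hl
          obtain ⟨hm, d, hd, hwd⟩ := hm
          refine ⟨L.mul_mem hl hm, c * d, mul_mem hc hd, ?_⟩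
          obtain ⟨w, hw, e⟩ := hcomp c hc d hd
          set a := c * v * c⁻¹ * v⁻¹
          set b := d * v * d⁻¹ * v⁻¹
          rw [e, show w * (b * a) * (l * m)⁻¹ =
            w * (b * m⁻¹) * ((m * (a * l⁻¹)) * m⁻¹) * (m * l * m⁻¹ * l⁻¹) by group,
            S.central _ hwc m (hLX hm), mul_inv_cancel_right]
          exact mul_mem (mul_mem (mul_mem hw hwd) hwc) (S.cm m (hLX hm) l (hLX hl))
        inv_mem' := fun {l} hl => by
          obtain ⟨hl, c, hc, hwc⟩ := hl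
          refine ⟨L.inv_mem hl, c⁻¹, inv_mem hc, ?_⟩
          set a := c * v * c⁻¹ * v⁻¹ with ha
          have e : c⁻¹ * v * c⁻¹⁻¹ * v⁻¹ = (c⁻¹ * a⁻¹ * c⁻¹⁻¹ * a⁻¹⁻¹) * a⁻¹ := by
            simp only [ha]; group
          rw [e, inv_inv l, mul_assoc _ a⁻¹ l]
          refine mul_mem ((memL.1 (L.inv_mem (hlc c hc))).2 c⁻¹ (inv_mem hc)) ?_
          rw [show a⁻¹ * l = l⁻¹ * (a * l⁻¹)⁻¹ * l by group, S.central _ (inv_mem hwc) l⁻¹ (X.inv_mem (hLX hl)),
            inv_mul_cancel_right]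
          exact inv_mem hwc }
    have memS : ∀ {l : G}, l ∈ Sv ↔ l ∈ L ∧ ∃ c ∈ C, c * v * c⁻¹ * v⁻¹ * l⁻¹ ∈ W := fun {l} => Iff.rfl
    have hWS : W ≤ Sv := fun w hw => memS.2 ⟨hWL hw, 1, one_mem C, by simpa using inv_mem hw⟩
    have hSL : Sv ≤ L := fun l hl => (memS.1 hl).1
    have hin : ∀ c ∈ C, c * v * c⁻¹ * v⁻¹ ∈ Sv := fun c hc =>
      memS.2 ⟨hlc c hc, c, hc, by rw [mul_inv_cancel]; exact one_mem W⟩
    have hmul := relIndex_mul_relIndex W Sv L hWS hSL
    rw [hrel.1] at hmul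
    obtain ⟨j, hj, hjS⟩ := (Nat.dvd_prime_pow Nat.prime_two).1
      (show W.relIndex Sv ∣ 2 ^ 2 from Dvd.intro _ hmul)
    have h2 : W.relIndex Sv ≠ 2 := by
      intro e
      have := mul_mem_iff_of_index_two (H := W.subgroupOf Sv) e (a := ⟨_, hin d₁ hd₁⟩) (b := ⟨_, hin c₁ hc₁⟩)
      simp only [mem_subgroupOf, coe_mul] at this
      have h := this.2 (iff_of_false (fun h => hd₁W (hinj d₁ hd₁ h)) (fun h => hc₁W (hinj c₁ hc₁ h)))
      obtain ⟨w, hw, e'⟩ := hcomp c₁ hc₁ d₁ hd₁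
      exact hcd (hinj _ (mul_mem hc₁ hd₁) (e' ▸ mul_mem hw h))
    have h1 : W.relIndex Sv ≠ 1 := fun e => hc₁W (hinj c₁ hc₁ (relIndex_eq_one.1 e (hin c₁ hc₁)))
    rw [hjS] at hmul h1 h2
    have hS1 : Sv.relIndex L = 1 := by interval_cases j <;> omega
    exact fun l hl => (memS.1 (relIndex_eq_one.1 hS1 hl)).2
  -- the quadratic form
  let f : G → G → G := fun v l => l * l * (v * l * v⁻¹ * l⁻¹)
  have fW : ∀ v ∈ X, ∀ l ∈ L, f v l ∈ W := fun v hv l hl =>
    mul_mem (S.sq l (hLX hl)) (S.cm v hv l (hLX hl))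
  have fw : ∀ v ∈ X, ∀ w ∈ W, ∀ l ∈ L, f v (w * l) = f v l := by
    intro v hv w hw l hl
    have hc : ∀ x ∈ X, x * w = w * x := S.central w hw
    show w * l * (w * l) * (v * (w * l) * v⁻¹ * (w * l)⁻¹) = l * l * (v * l * v⁻¹ * l⁻¹)
    rw [show w * l * (w * l) = w * (l * w) * l by group, hc l (hLX hl),
      show w * (w * l) * l = (w * w) * (l * l) by group, S.exp2 w hw, one_mul,
      show v * (w * l) * v⁻¹ * (w * l)⁻¹ = (v * w) * (l * v⁻¹ * l⁻¹) * w⁻¹ by group, hc v hv,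
      show w * v * (l * v⁻¹ * l⁻¹) * w⁻¹ = w * (v * l * v⁻¹ * l⁻¹) * w⁻¹ by group,
      hWW w hw _ (S.cm v hv l (hLX hl)), mul_inv_cancel_right]
  have fconj : ∀ v ∈ X, ∀ c ∈ C, c * (v * v) * c⁻¹ = f v (c * v * c⁻¹ * v⁻¹) * (v * v) := by
    intro v hv c hc
    set l := c * v * c⁻¹ * v⁻¹ with hl
    have hlX : l ∈ X := hLX (hcL c hc v hv)
    have e : c * (v * v) * c⁻¹ = l * ((v * l * v⁻¹ * l⁻¹) * l) * (v * v) := by
      simp only [hl]; group
    rw [e, ← mul_assoc l (v * l * v⁻¹ * l⁻¹) l, S.central _ (S.cm v hv l hlX) l hlX, mul_assoc _ l l,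
      ← S.central _ (S.cm v hv l hlX) (l * l) (mul_mem hlX hlX)]
  have fapprox : ∀ v ∈ X, v ∉ L → ∀ l ∈ L, ∃ c ∈ C, f v l = c * (v * v) * c⁻¹ * (v * v)⁻¹ := by
    intro v hv hvL l hl
    obtain ⟨c, hc, hw⟩ := surj v hv hvL l hl
    refine ⟨c, hc, ?_⟩
    rw [fconj v hv c hc, mul_inv_cancel_right, ← fw v hv _ hw l hl, inv_mul_cancel_right]
  by_cases hfix : ∀ w ∈ W, n * w * n⁻¹ = w
  · -- the layer is fixed by `n`
    set w₀ := l₀ * l₀ with hw₀
    have hw₀W : w₀ ∈ W := S.sq l₀ (hLX hl₀)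
    have hCw₀ : ∀ c ∈ C, c * w₀ * c⁻¹ = w₀ := by
      intro c hc
      have hw := (memL.1 hl₀).2 c hc
      set w := c * l₀ * c⁻¹ * l₀⁻¹ with hwdef
      rw [hw₀, show c * (l₀ * l₀) * c⁻¹ = (w * l₀) * (w * l₀) by simp only [hwdef]; group,
        show w * l₀ * (w * l₀) = w * (l₀ * w) * l₀ by group, S.central w hw l₀ (hLX hl₀),
        show w * (w * l₀) * l₀ = (w * w) * (l₀ * l₀) by group, S.exp2 w hw, one_mul]
    have hcomW : ∀ c ∈ C, ∀ w ∈ W, c * w * c⁻¹ * w⁻¹ = 1 ∨ c * w * c⁻¹ * w⁻¹ = w₀ := by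
      intro c hc w hw
      by_cases hw1 : w = 1
      · exact Or.inl (by simp [hw1])
      by_cases hww₀ : w = w₀
      · exact Or.inl (by rw [hww₀, hCw₀ c hc, mul_inv_cancel])
      have h4 : Nat.card W = 4 := by
        refine hW.resolve_left fun h2 => ?_
        obtain ⟨z, -, -, hall⟩ := card_two_elems h2
        exact hww₀ (((hall w hw).resolve_left hw1).trans ((hall w₀ hw₀W).resolve_left hl₀2).symm)
      rcases four_cases h4 S.exp2 hw₀W hw hl₀2 hw1 (Ne.symm hww₀) _ (S.invT c hc.1 w hw) with e | e | e | e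
      · exact absurd (conj_eq_one_iff.1 e) hw1
      · exact absurd (mul_left_cancel (mul_right_cancel (e.trans (hCw₀ c hc).symm))) hww₀
      · exact Or.inl (by rw [e, mul_inv_cancel])
      · exact Or.inr (by rw [e, mul_inv_cancel_right])
    obtain ⟨v, hv, hvL⟩ := SetLike.not_le_iff_exists.1 (fun h : X ≤ L => hLne (le_antisymm hLX h))
    have hfixf : ∀ c ∈ C, ∀ l ∈ L, c * f v l * c⁻¹ = f v l := by
      intro c hc l hl
      obtain ⟨d, hd, e⟩ := fapprox v hv hvL l hl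
      rw [e]
      rcases hcomW d hd _ (S.sq v hv) with h | h <;> rw [h]
      · simp
      · exact hCw₀ c hc
    have hLab : ∀ l ∈ L, ∀ m ∈ L, l * m = m * l := by
      intro l hl m hm
      obtain ⟨c, hc, hwc⟩ := surj v hv hvL l hl
      obtain ⟨d, hd, hwd⟩ := surj v hv hvL m hm
      set a := c * v * c⁻¹ * v⁻¹ with ha
      set b := d * v * d⁻¹ * v⁻¹ with hb
      have haL : a ∈ L := hcL c hc v hv
      have hbL : b ∈ L := hcL d hd v hv
      have hcomb : (c * d) * v * (c * d)⁻¹ * v⁻¹ = (c * b * c⁻¹ * b⁻¹) * (b * a) := by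
        simp only [ha, hb]; group
      have h1 : f v ((c * d) * v * (c * d)⁻¹ * v⁻¹) = f v b * f v a := by
        have h := fconj v hv (c * d) (mul_mem hc hd)
        rw [show c * d * (v * v) * (c * d)⁻¹ = c * (d * (v * v) * d⁻¹) * c⁻¹ by group, fconj v hv d hd,
          show c * (f v b * (v * v)) * c⁻¹ = (c * f v b * c⁻¹) * (c * (v * v) * c⁻¹) by group,
          hfixf c hc b hbL, fconj v hv c hc, ← ha, ← mul_assoc] at h
        exact (mul_right_cancel h).symm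
      rw [hcomb, fw v hv _ ((memL.1 hbL).2 c hc) _ (mul_mem hbL haL)] at h1
      have h2 : f v (b * a) = (a * b * a⁻¹ * b⁻¹) * (f v b * f v a) := by
        have hca : v * a * v⁻¹ * a⁻¹ ∈ W := S.cm v hv a (hLX haL)
        have hcb : v * b * v⁻¹ * b⁻¹ ∈ W := S.cm v hv b (hLX hbL)
        have hab' : a * b * a⁻¹ * b⁻¹ ∈ W := S.cm a (hLX haL) b (hLX hbL)
        have e1 : b * a * (b * a) = (a * b * a⁻¹ * b⁻¹) * ((b * b) * (a * a)) := by
          calc b * a * (b * a) = (b * (a * b * a⁻¹ * b⁻¹)) * (b * (a * a)) := by group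
            _ = _ := by rw [S.central _ hab' b (hLX hbL)]; group
        have e2 : v * (b * a) * v⁻¹ * (b * a)⁻¹ = (v * b * v⁻¹ * b⁻¹) * (v * a * v⁻¹ * a⁻¹) := by
          calc v * (b * a) * v⁻¹ * (b * a)⁻¹ = (v * b * v⁻¹ * b⁻¹) * (b * (v * a * v⁻¹ * a⁻¹) * b⁻¹) := by group
            _ = _ := by rw [S.central _ hca b (hLX hbL), mul_inv_cancel_right]
        show b * a * (b * a) * (v * (b * a) * v⁻¹ * (b * a)⁻¹) =
          (a * b * a⁻¹ * b⁻¹) * ((b * b * (v * b * v⁻¹ * b⁻¹)) * (a * a * (v * a * v⁻¹ * a⁻¹)))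
        rw [e1, e2]
        calc (a * b * a⁻¹ * b⁻¹) * (b * b * (a * a)) * ((v * b * v⁻¹ * b⁻¹) * (v * a * v⁻¹ * a⁻¹))
            = (a * b * a⁻¹ * b⁻¹) * (b * b) * ((a * a) * (v * b * v⁻¹ * b⁻¹)) * (v * a * v⁻¹ * a⁻¹) := by group
          _ = _ := by rw [hWW _ (S.sq a (hLX haL)) _ hcb]; group
      rw [h2, mul_eq_right, mul_inv_eq_one, mul_inv_eq_iff_eq_mul] at h1
      have hcab : Commute a b := h1
      have e : ∀ {x y : G}, x * y⁻¹ ∈ W → y = (x * y⁻¹) * x := fun {x y} h => by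
        conv_rhs => rw [show (x * y⁻¹) = (x * y⁻¹)⁻¹ from (hWinv _ h).symm]
        group
      have hca : ∀ {y : G}, y ∈ X → Commute (a * l⁻¹) y := fun {y} hy => (S.central _ hwc y hy).symm
      have hcb : ∀ {y : G}, y ∈ X → Commute (b * m⁻¹) y := fun {y} hy => (S.central _ hwd y hy).symm
      rw [e hwc, e hwd]
      exact ((hca (mul_mem (S.le hwd) (hLX hbL))).mul_left ((hcb (hLX haL)).symm.mul_right hcab)).eq
    set m₀ := n * l₀ * n⁻¹ with hm₀
    have hm₀L : m₀ ∈ L := hLn l₀ hl₀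
    have hm₀2 : m₀ * m₀ = w₀ := by
      rw [hm₀, show n * l₀ * n⁻¹ * (n * l₀ * n⁻¹) = n * (l₀ * l₀) * n⁻¹ by group]
      exact hfix _ hw₀W
    set Om := omegaAb L hLab
    have hOmL : Om ≤ L := fun x hx => hx.1
    have hWOm : W ≤ Om := fun w hw => ⟨hWL hw, S.exp2 w hw⟩
    have hOmn : ∀ x ∈ Om, n * x * n⁻¹ ∈ Om := fun x hx => ⟨hLn x hx.1, by
      rw [show n * x * n⁻¹ * (n * x * n⁻¹) = n * (x * x) * n⁻¹ by group, hx.2, mul_one, mul_inv_cancel]⟩
    have hu : m₀ * l₀⁻¹ ∈ Om := by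
      refine ⟨mul_mem hm₀L (inv_mem hl₀), ?_⟩
      rw [(show Commute l₀⁻¹ m₀ from hLab _ (inv_mem hl₀) m₀ hm₀L).mul_mul_mul_comm, hm₀2, ← mul_inv_rev,
        ← hw₀, mul_inv_cancel]
    have huW : m₀ * l₀⁻¹ ∉ W := fun h => hl₀2 (S.exp2 l₀ (F.mem_of_fix_mod S.invn S.cm (hLX hl₀) h))
    have hmul := relIndex_mul_relIndex W Om L hWOm hOmL
    rw [hrel.1] at hmul
    have h2 := F.relIndex_ne_two (hOmL.trans hLX) S.invn hOmn S.cm
    have h1 : W.relIndex Om ≠ 1 := fun e => huW (relIndex_eq_one.1 e hu)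
    obtain ⟨j, hj, hjS⟩ := (Nat.dvd_prime_pow Nat.prime_two).1
      (show W.relIndex Om ∣ 2 ^ 2 from Dvd.intro _ hmul)
    rw [hjS] at hmul h1 h2
    have hS1 : Om.relIndex L = 1 := by interval_cases j <;> omega
    exact hl₀2 (relIndex_eq_one.1 hS1 hl₀).2
  · -- the layer is moved
    push Not at hfix
    obtain ⟨w₁, hw₁, hmove⟩ := hfix
    have hbot : ∀ t ∈ (T : Subgroup G), ∀ x ∈ (⊥ : Subgroup G), t * x * t⁻¹ ∈ (⊥ : Subgroup G) :=
      fun t _ x hx => by rw [mem_bot] at hx ⊢; rw [hx, mul_one, mul_inv_cancel]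
    obtain ⟨a, ha, ha1, hac⟩ := F.exists_central_mod hbot (S.le.trans F.twisted_le) S.invT (fun h =>
      hmove (by rw [mem_bot.1 (h hw₁), mul_one, mul_inv_cancel]))
    rw [mem_bot] at ha1
    have hac' : ∀ t ∈ (T : Subgroup G), t * a = a * t := fun t ht =>
      mul_inv_eq_iff_eq_mul.1 (mul_inv_eq_one.1 (mem_bot.1 (hac t ht)))
    set b := n * a * n⁻¹ with hb
    have hbW : b ∈ W := S.invn a ha
    have hb1 : b ≠ 1 := fun h => ha1 (conj_eq_one_iff.1 h)
    have h4 : Nat.card W = 4 := hW.resolve_left fun h2 => by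
      obtain ⟨z, -, -, hall⟩ := card_two_elems h2
      rcases hall w₁ hw₁ with e | e
      · exact hmove (by rw [e, mul_one, mul_inv_cancel])
      · refine hmove ?_
        rcases hall _ (S.invn w₁ hw₁) with e' | e'
        · exact absurd (conj_eq_one_iff.1 e') (fun h => hmove (by rw [h, mul_one, mul_inv_cancel]))
        · rw [e', e]
    have hab : a ≠ b := by
      intro e
      refine hmove ?_
      by_cases hw11 : w₁ = 1
      · rw [hw11, mul_one, mul_inv_cancel]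
      by_cases hw1a : w₁ = a
      · rw [hw1a, ← hb, ← e]
      rcases four_cases h4 S.exp2 ha hw₁ ha1 hw11 (Ne.symm hw1a) _ (S.invn w₁ hw₁) with h | h | h | h
      · exact absurd (conj_eq_one_iff.1 h) hw11
      · exact absurd (mul_left_cancel (mul_right_cancel (h.trans (e.trans hb)))) hw1a
      · exact h
      · refine fix_of_fix_sq F.odd ?_
        rw [h, show n * (a * w₁) * n⁻¹ = (n * a * n⁻¹) * (n * w₁ * n⁻¹) by group, h, ← hb, ← e,
          ← mul_assoc, S.exp2 a ha, one_mul]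
    have hbc : ∀ t ∈ (T : Subgroup G), t * b = b * t := by
      intro t ht
      have ht' : n⁻¹ * t * n ∈ (T : Subgroup G) := (mem_normalizer_iff''.1 F.mem t).1 ht
      calc t * b = n * ((n⁻¹ * t * n) * a) * n⁻¹ := by simp only [hb]; group
        _ = n * (a * (n⁻¹ * t * n)) * n⁻¹ := by rw [hac' _ ht']
        _ = b * t := by simp only [hb]; group
    have hCW : ∀ c ∈ C, ∀ w ∈ W, c * w * c⁻¹ = w := by
      intro c hc w hw
      refine mul_inv_eq_iff_eq_mul.2 ?_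
      rcases four_cases h4 S.exp2 ha hbW ha1 hb1 hab w hw with rfl | rfl | rfl | rfl
      · rw [mul_one, one_mul]
      · exact hac' c hc.1
      · exact hbc c hc.1
      · exact ((show Commute c a from hac' c hc.1).mul_right (hbc c hc.1)).eq
    have hf1 : ∀ v ∈ X, v ∉ L → f v l₀ = 1 := by
      intro v hv hvL
      obtain ⟨c, hc, e⟩ := fapprox v hv hvL l₀ hl₀
      rw [e, hCW c hc _ (S.sq v hv), mul_inv_cancel]
    obtain ⟨v, hv, hvL⟩ := SetLike.not_le_iff_exists.1 (fun h : X ≤ L => hLne (le_antisymm hLX h))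
    set v' := n * v * n⁻¹ with hv'
    have hv'X : v' ∈ X := F.twisted_n hv
    have hv'L : v' ∉ L := fun h => hvL (F.mem_of_image hLn hv h)
    have hprodL : v * v' ∉ L := by
      intro h
      refine hvL (F.mem_of_fix_mod hLn habL hv ?_)
      rw [← hv', show v' * v⁻¹ = (v⁻¹ * (v * v') * v) * (v * v)⁻¹ by group]
      have hconj := hLT v⁻¹ (inv_mem (F.twisted_le hv)) _ h
      rw [inv_inv] at hconj
      exact mul_mem hconj (inv_mem (hWL (S.sq v hv)))
    have e1 := hf1 v hv hvL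
    have e2 := hf1 v' hv'X hv'L
    have e3 := hf1 _ (mul_mem hv hv'X) hprodL
    simp only [f] at e1 e2 e3
    have hl₀X := hLX hl₀
    rw [show v * v' * l₀ * (v * v')⁻¹ * l₀⁻¹ =
        (v * (v' * l₀ * v'⁻¹ * l₀⁻¹) * v⁻¹) * (v * l₀ * v⁻¹ * l₀⁻¹) by group,
      S.central _ (S.cm v' hv'X l₀ hl₀X) v hv, mul_inv_cancel_right, ← mul_assoc, e2, one_mul] at e3
    rw [e3, mul_one] at e1
    exact hl₀2 e1

/-- A quotient of order sixteen. -/
theorem Frame.card_of_sixteen [IsSimpleGroup G] (hna : ¬ IsMulCommutative G) {T : Sylow 2 G} {n : G}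
    {W : Subgroup G} (F : Frame T n) (S : Lay T n W) (h16 : W.relIndex (twisted T n) = 16) :
    Nat.card (T : Subgroup G) = 64 ∨ Nat.card (T : Subgroup G) = 128 := by
  have hX16 := card_mul_relIndex S.le
  rw [h16] at hX16
  have hW1 : Nat.card W ≠ 1 := by
    intro h1
    have hW : W = ⊥ := eq_bot_of_card_eq W h1
    have h4 := F.small _ F.twisted_le (fun t ht x hx => F.twisted_conj ht hx) fun x hx =>
      mem_bot.1 (hW ▸ S.sq x hx)
    omega
  have hW := card_eq_two_or_four (S.le.trans F.twisted_le) S.card4 hW1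
  have hfm := F.fix_mul_mem S h16 hW
  have hXfix : ∀ k ∈ fixPart T n, k ∈ twisted T n → k ∈ W := fun k hk hkX =>
    F.mem_of_fix_mod S.invn S.cm hkX (by rw [F.fix_comm hk, mul_inv_cancel_right, mul_inv_cancel]; exact one_mem W)
  have hle : (twisted T n).relIndex (T : Subgroup G) ≤ 2 := by
    refine relIndex_le_two fun a ha b hb haX hbX => ?_
    obtain ⟨x, hx, c, hc, rfl⟩ := F.decomp ha
    obtain ⟨y, hy, d, hd, rfl⟩ := F.decomp hb
    have h := hfm c hc d hd (fun h => haX (mul_mem hx (S.le h))) (fun h => hbX (mul_mem hy (S.le h)))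
    rw [show x * c * (y * d) = x * (c * y * c⁻¹) * (c * d) by group]
    exact mul_mem (mul_mem hx (F.twisted_conj hc.1 hy)) (S.le h)
  have hT := card_mul_relIndex F.twisted_le
  have h0 : (twisted T n).relIndex (T : Subgroup G) ≠ 0 := index_ne_zero_of_finite
  rcases (show (twisted T n).relIndex (T : Subgroup G) = 1 ∨ (twisted T n).relIndex (T : Subgroup G) = 2 by omega)
    with e | e <;> rw [e] at hT <;> rcases hW with h | h <;> rw [h] at hX16
  · exact (F.not_sylow_twisted hna S h (by omega) (relIndex_eq_one.1 e)).elim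
  · omega
  · omega
  · omega

end CfsgLib.NormalRankTwo
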